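import Cfsg.Agent.RootSub.Special.Exponent
import Cfsg.Agent.RootSub.QuasiCriterion

/-!
# Special rank one groups are quasisimple up to the small cases
-/

namespace Cfsg.Agent.RootSub.Special

open Cfsg
open scoped commutatorElement

theorem exists_outside {G : Type*} [Group G] {K : Subgroup G} (h : 3 < ENat.card K) (x y : G) :
    ∃ a ∈ K, a ≠ 1 ∧ a ≠ x ∧ a ≠ y := by
  classical
  by_contra hcon
  push Not at hcon
  have hsub : (K : Set G) ⊆ ↑({1, x, y} : Finset G) := by
    intro a ha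
    simp only [Finset.coe_insert, Finset.coe_singleton, Set.mem_insert_iff, Set.mem_singleton_iff]
    by_cases h1 : a = 1
    · exact Or.inl h1
    by_cases hx : a = x
    · exact Or.inr (Or.inl hx)
    · exact Or.inr (Or.inr (hcon a ha h1 hx))
  have h1 : ENat.card K ≤ ({1, x, y} : Finset G).card := by
    rw [← Set.encard_coe_eq_coe_finsetCard]
    exact Set.encard_le_encard hsub
  have h2 : ({1, x, y} : Finset G).card ≤ 3 := Finset.card_le_three
  exact absurd (h.trans_le (h1.trans (Nat.cast_le.mpr h2))) (lt_irrefl _)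

variable {X : Type*} [Group X] {A B : Subgroup X}

theorem SPair.comm_diag_le (_hP : SPair A B) : ⁅A, rankOneDiagonal A B⁆ ≤ A := by
  rw [Subgroup.commutator_le]
  intro a ha h hh
  have hn : h * a⁻¹ * h⁻¹ ∈ A :=
    (Subgroup.mem_normalizer_iff.mp (Subgroup.mem_inf.mp (Subgroup.mem_inf.mp hh).1).2 a⁻¹).mp
      (inv_mem ha)
  rw [commutatorElement_def, show a * h * a⁻¹ * h⁻¹ = a * (h * a⁻¹ * h⁻¹) by group]
  exact mul_mem ha hn

theorem SPair.hua_mem_comm (hP : SPair A B) {e β a b : X} (h : Partner A B a b)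
    (he : Partner A B e β) :
    ((mu a b)⁻¹ * mu e β) * e * ((mu a b)⁻¹ * mu e β)⁻¹ * e⁻¹ ∈ ⁅A, rankOneDiagonal A B⁆ := by
  have hm := Subgroup.commutator_mem_commutator he.mem (hP.hua_fix h he)
  have := inv_mem hm
  rwa [commutatorElement_inv, commutatorElement_def] at this

/-- The commutators of A with the diagonal form a group of more than three elements. -/
theorem SPair.three_lt_card (hP : SPair A B) (hA : 3 < ENat.card A) :
    3 < ENat.card ↥⁅A, rankOneDiagonal A B⁆ := by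
  by_contra hle
  rw [not_lt] at hle
  set K := ⁅A, rankOneDiagonal A B⁆ with hK
  have hKA := hP.comm_diag_le
  rcases eq_or_ne K ⊥ with hbot | hne
  · obtain ⟨e, he, he1⟩ := RankOne.exists_ne_one hP.pair
    obtain ⟨β, hβ⟩ := hP.exists_partner he he1
    obtain ⟨a, ha, ha1, hae, haei⟩ := exists_outside hA e e⁻¹
    obtain ⟨b, hb⟩ := hP.exists_partner ha ha1
    have hm := hP.hua_mem_comm hb hβ
    rw [← hK, hbot, Subgroup.mem_bot, mul_inv_eq_one] at hm
    exact hP.hua_moves hb hβ hae (fun h => haei (eq_inv_of_mul_eq_one_left h)) hm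
  obtain ⟨⟨e, heK⟩, hne1⟩ := K.ne_bot_iff_exists_ne_one.mp hne
  have he1 : e ≠ 1 := fun h => hne1 (Subtype.ext h)
  have heA := hKA heK
  have hfin : Finite K := by
    by_contra hinf
    rw [not_finite_iff_infinite] at hinf
    rw [ENat.card_eq_top_of_infinite] at hle
    exact absurd hle (by simp)
  have hcard : Nat.card K ≤ 3 := by
    rw [ENat.card_eq_coe_natCard] at hle
    exact_mod_cast hle
  have hord : orderOf e ∣ Nat.card K := by
    rw [← Subgroup.orderOf_mk e heK]; exact orderOf_dvd_natCard _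
  have hzp : Subgroup.zpowers e = K := by
    refine Subgroup.eq_of_le_of_card_ge (Subgroup.zpowers_le.mpr heK) ?_
    rw [Nat.card_zpowers]
    have h1 : orderOf e ≠ 1 := fun h => he1 (orderOf_eq_one_iff.mp h)
    have h0 : 0 < Nat.card K := Nat.card_pos
    have h2 := Nat.le_of_dvd h0 hord
    rcases hord with ⟨r, hr⟩
    have h3 : 0 < orderOf e := Nat.pos_of_ne_zero fun h => by rw [h, zero_mul] at hr; omega
    rcases r with _ | _ | r
    · omega
    · omega
    · have : 2 * 2 ≤ orderOf e * (r + 1 + 1) := Nat.mul_le_mul (by omega) (by omega)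
      omega
  obtain ⟨β, hβ⟩ := hP.exists_partner heA he1
  have hinv : ∀ {a b}, Partner A B a b → a ≠ e → a * e ≠ 1 →
      ((mu a b)⁻¹ * mu e β) * e * ((mu a b)⁻¹ * mu e β)⁻¹ = e⁻¹ ∧ e ^ 3 = 1 := by
    intro a b hb hae hae'
    have hm := hP.hua_mem_comm hb hβ
    have hmv := hP.hua_moves hb hβ hae hae'
    set v := ((mu a b)⁻¹ * mu e β) * e * ((mu a b)⁻¹ * mu e β)⁻¹ with hv
    rw [← hK] at hm
    have hvK : v ∈ K := by
      have := mul_mem hm heK
      rwa [inv_mul_cancel_right] at this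
    have hv1 : v ≠ 1 := fun h => by rw [hv, conj_eq_one_iff] at h; exact he1 h
    rw [← hzp] at hvK
    obtain ⟨n, hn⟩ := Subgroup.mem_zpowers_iff.mp hvK
    have h3 : orderOf e ≤ 3 := by rw [← Nat.card_zpowers, hzp]; exact hcard
    have hpos : 0 < orderOf e := by rw [← Nat.card_zpowers, hzp]; exact Nat.card_pos
    rw [← zpow_mod_orderOf] at hn
    have hlo : 0 ≤ n % (orderOf e : ℤ) := Int.emod_nonneg _ (by omega)
    have hhi : n % (orderOf e : ℤ) < orderOf e := Int.emod_lt_of_pos _ (by omega)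
    have hn0 : n % (orderOf e : ℤ) ≠ 0 := fun h => hv1 (by rw [← hn, h, zpow_zero])
    have hn1 : n % (orderOf e : ℤ) ≠ 1 := fun h => hmv (by rw [← hn, h, zpow_one])
    have hord3 : orderOf e = 3 ∧ n % (orderOf e : ℤ) = 2 := by omega
    have he3 : e ^ 3 = 1 := by rw [← hord3.1]; exact pow_orderOf_eq_one e
    refine ⟨?_, he3⟩
    rw [← hn, hord3.2]
    refine eq_inv_of_mul_eq_one_left ?_
    rw [← zpow_add_one]
    exact_mod_cast he3
  obtain ⟨a, ha, ha1, hae, haei⟩ := exists_outside hA e e⁻¹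
  obtain ⟨b, hb⟩ := hP.exists_partner ha ha1
  have hae' : a * e ≠ 1 := fun h => haei (eq_inv_of_mul_eq_one_left h)
  obtain ⟨hflip, he3⟩ := hinv hb hae hae'
  obtain ⟨g, hg⟩ := hP.exists_partner (mul_mem ha heA) hae'
  have ha'e : a * e ≠ e := fun h => ha1 (mul_eq_right.mp h)
  have hee : a * e * e ≠ 1 := fun h => by
    have h' : a * e = e⁻¹ := eq_inv_of_mul_eq_one_left h
    have h2 : e⁻¹ = e ^ 2 := inv_eq_of_mul_eq_one_right (by rw [← pow_succ', he3])
    rw [h2, sq] at h'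
    exact hae (mul_right_cancel h')
  obtain ⟨hflip', -⟩ := hinv hg ha'e hee
  obtain ⟨g2, hg2⟩ := hP.exists_partner (mul_mem (mul_mem ha heA) heA) hee
  have hconj : ∀ {a b}, ((mu a b)⁻¹ * mu e β) * e * ((mu a b)⁻¹ * mu e β)⁻¹ = e⁻¹ →
      mu a b * e * (mu a b)⁻¹ = β := by
    intro a b h
    have h' := congrArg (·⁻¹) h
    simp only [mul_inv_rev, inv_inv, mul_assoc] at h'
    conv_lhs => rw [← h']
    have h1 := congrArg (·⁻¹) hβ.mu_conj
    simp only [mul_inv_rev, inv_inv, mul_assoc] at h1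
    conv_rhs => rw [← h1]
    simp [mul_assoc]
  have r1 := hP.partner_of_conj hb hβ hβ hg (hconj hflip)
  have r2 := hP.partner_of_conj hg hβ hβ hg2 (hconj hflip')
  have q2 : (a * e)⁻¹ * e = a⁻¹ := by
    rw [hP.commA a ha e heA, mul_inv_rev, inv_mul_cancel_right]
  rw [q2] at r2
  have s2 : b⁻¹ = g⁻¹ * g2 := hP.partner_unique hb.inv r2
  have q1 : (a⁻¹ * e)⁻¹ = a * e * e := by
    have h2 : e⁻¹ = e * e := inv_eq_of_mul_eq_one_right (by rw [← sq, ← pow_succ', he3])
    rw [mul_inv_rev, inv_inv, h2, hP.commA _ (mul_mem heA heA) _ ha, mul_assoc]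
  have s1 := hP.partner_unique hg2 (q1 ▸ r1.inv)
  rw [s1, mul_inv_rev, inv_inv] at s2
  have hpow : ∀ y ∈ B, y ^ 3 = 1 := by
    intro y hy
    obtain ⟨x, -, hx⟩ := RankOne.right_eq_conj hP.pair
    rw [hx, mem_conjBy] at hy
    have h3 := hP.pow_eq_one (p := 3) (by omega) ?_ heA he1 he3 hy
    · rwa [show x⁻¹ * y * x = x⁻¹ * y * x⁻¹⁻¹ by rw [inv_inv], conj_pow, conj_eq_one_iff] at h3
    · intro z hz hz1 j hj hj3 hze
      have : j = 1 ∨ j = 2 := by omega
      rcases this with rfl | rfl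
      · exact hz1 (by simpa using hze)
      · have := hP.elementary_two hz hz1 hze heA
        exact he1 (by rw [pow_succ, this, one_mul] at he3; exact he3)
  have hgg : g * g = g⁻¹ := (inv_eq_of_mul_eq_one_right (by
    rw [← sq, ← pow_succ', hpow g hg.mem'])).symm
  have hgb : g = b := by
    have hgi : g⁻¹ * g⁻¹ = g := by
      rw [← mul_inv_rev, hgg, inv_inv]
    rw [← mul_assoc, hgi] at s2
    -- b⁻¹ = g * b
    have h4 : g = b⁻¹ * b⁻¹ := eq_mul_inv_of_mul_eq s2.symm
    rw [h4, ← mul_inv_rev, inv_eq_iff_mul_eq_one, ← pow_two, ← pow_succ, hpow b hb.mem']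
  exact he1 (mul_eq_left.mp (hP.partner_unique' hg (hgb ▸ hb)))

variable (hX : A ⊔ B = ⊤)

include hX

omit hX in
theorem SPair.not_center (hP : SPair A B) {e : X} (he : e ∈ A) (he1 : e ≠ 1) :
    e ∉ Subgroup.center X := fun hc => by
  obtain ⟨b, hb⟩ := hP.exists_partner he he1
  exact RankOne.not_commute hP.pair he he1 hb.mem' hb.ne'
    ((Subgroup.mem_center_iff.mp hc b).symm)

theorem SPair.sup_eq_top (hP : SPair A B) (hA : 3 < ENat.card A) : commutator X ⊔ A = ⊤ := by
  rcases RankOne.normal_cases hX hP.pair (commutator X) with h | h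
  · exact h
  exfalso
  obtain ⟨e, he, he1, -⟩ := exists_outside (hP.three_lt_card hA) 1 1
  exact hP.not_center (hP.comm_diag_le he) he1
    (h ((Subgroup.commutator_mono le_top le_top : ⁅A, rankOneDiagonal A B⁆ ≤ commutator X) he))

omit hX in
theorem SPair.partner_mem_commutator (_hP : SPair A B) {a b : X} (h : Partner A B a b)
    (ha : a ∈ commutator X) : b ∈ commutator X := by
  have e := congrArg (Abelianization.of) h.conj_eq_mul
  simp only [map_mul, map_inv] at e
  have ha' : Abelianization.of a = (1 : Abelianization X) := by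
    rwa [← MonoidHom.mem_ker, Abelianization.ker_of]
  rw [ha'] at e
  simp at e
  rwa [← Abelianization.ker_of, MonoidHom.mem_ker]

theorem SPair.normal_of_commutator (hP : SPair A B) (hA : 3 < ENat.card A) {N : Subgroup X}
    (hNle : N ≤ commutator X) (hN : ∀ h ∈ commutator X, ∀ n ∈ N, h * n * h⁻¹ ∈ N) :
    N = commutator X ∨ N ≤ Subgroup.center X := by
  by_cases hfix : ∀ n ∈ N, ∀ C ∈ unipotentSubgroups A B, conjBy C n = C
  · exact Or.inr fun n hn => RankOne.mem_center_of_fix_all hX hP.pair (hfix n hn)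
  left
  push Not at hfix
  obtain ⟨n₀, hn₀, C, hC, hne⟩ := hfix
  obtain ⟨x, -, hxA, hxB⟩ := RankOne.exists_transport hP.pair hC
    (conjBy_mem_unipotent (hX ▸ Subgroup.mem_top n₀) hC) (Ne.symm hne)
  suffices h : ∀ N : Subgroup X, N ≤ commutator X →
      (∀ h ∈ commutator X, ∀ n ∈ N, h * n * h⁻¹ ∈ N) → (∃ n ∈ N, conjBy A n = B) →
        commutator X ≤ N by
    have hD : (commutator X).Normal := inferInstance
    have hle := h (conjBy N x⁻¹) ?_ ?_ ?_
    · refine le_antisymm hNle fun y hy => ?_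
      have := mem_conjBy.mp (hle (hD.conj_mem y hy x⁻¹))
      simpa [mul_assoc] using this
    · intro y hy
      rw [mem_conjBy, inv_inv] at hy
      have := hD.conj_mem _ (hNle hy) x⁻¹
      simpa [mul_assoc] using this
    · intro g hg y hy
      rw [mem_conjBy, inv_inv] at hy ⊢
      have := hN _ (hD.conj_mem g hg x) _ hy
      simpa [mul_assoc] using this
    · refine ⟨x⁻¹ * n₀ * x, by rw [mem_conjBy]; simpa [mul_assoc] using hn₀, ?_⟩
      rw [← conjBy_conjBy, hxA, ← conjBy_conjBy, ← hxB, conjBy_inv_cancel]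
  intro N hNle hN ⟨n, hn, hnA⟩
  set D := commutator X
  have hKD : ⁅A, rankOneDiagonal A B⁆ ≤ D := Subgroup.commutator_mono le_top le_top
  let P : Subgroup X :=
    { carrier := {g | g ∈ D ∧ ∀ w ∈ A, w ∈ D → ⁅g, w⁆ ∈ N}
      one_mem' := ⟨one_mem _, fun w _ _ => by rw [commutatorElement_one_left]; exact one_mem _⟩
      mul_mem' := fun {g g'} hg hg' => ⟨mul_mem hg.1 hg'.1, fun w hw hwD => by
        rw [show ⁅g * g', w⁆ = g * ⁅g', w⁆ * g⁻¹ * ⁅g, w⁆ by simp [commutatorElement_def]; group]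
        exact mul_mem (hN g hg.1 _ (hg'.2 w hw hwD)) (hg.2 w hw hwD)⟩
      inv_mem' := fun {g} hg => ⟨inv_mem hg.1, fun w hw hwD => by
        rw [show ⁅g⁻¹, w⁆ = g⁻¹ * ⁅g, w⁆⁻¹ * g⁻¹⁻¹ by simp [commutatorElement_def]; group]
        exact hN _ (inv_mem hg.1) _ (inv_mem (hg.2 w hw hwD))⟩ }
  have hPA : ∀ w ∈ A, w ∈ D → w ∈ P := fun w hw hwD => ⟨hwD, fun w' hw' _ => by
    rw [commutatorElement_eq_one_iff_mul_comm.mpr (hP.commA w hw w' hw')]; exact one_mem _⟩
  have hPB : ∀ u ∈ B, u ∈ D → u ∈ P := fun u hu huD => ⟨huD, fun w' hw' hwD' => by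
    set w := n⁻¹ * u * n with hw
    have hwA : w ∈ A := by rw [← hnA, mem_conjBy] at hu; exact hu
    have hwD : w ∈ D := mul_mem (mul_mem (inv_mem (hNle hn)) huD) (hNle hn)
    have hu' : u = n * w * n⁻¹ := by rw [hw]; group
    have hz : u * w⁻¹ ∈ N := by
      rw [hu', show n * w * n⁻¹ * w⁻¹ = n * (w * n⁻¹ * w⁻¹) by group]
      exact mul_mem hn (hN w hwD _ (inv_mem hn))
    have hm : w' * (u * w⁻¹) * w'⁻¹ * (u * w⁻¹)⁻¹ ∈ N := mul_mem (hN w' hwD' _ hz) (inv_mem hz)
    have hcw : w⁻¹ * w'⁻¹ * w = w'⁻¹ := by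
      rw [hP.commA _ (inv_mem hwA) _ (inv_mem hw'), inv_mul_cancel_right]
    rw [show ⁅u, w'⁆ = (w' * (u * w⁻¹) * w'⁻¹ * (u * w⁻¹)⁻¹)⁻¹ by
      rw [show w' * (u * w⁻¹) * w'⁻¹ * (u * w⁻¹)⁻¹ = w' * u * (w⁻¹ * w'⁻¹ * w) * u⁻¹ by group,
        hcw, commutatorElement_def]
      group]
    exact inv_mem hm⟩
  obtain ⟨e, heK, he1, -, -⟩ := exists_outside (hP.three_lt_card hA) 1 1
  have heA := hP.comm_diag_le heK
  obtain ⟨β, hβ⟩ := hP.exists_partner heA he1
  obtain ⟨a, haK, ha1, hae, haei⟩ := exists_outside (hP.three_lt_card hA) e e⁻¹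
  have haA := hP.comm_diag_le haK
  obtain ⟨b, hb⟩ := hP.exists_partner haA ha1
  have hmuP : ∀ {a b}, Partner A B a b → a ∈ D → mu a b ∈ P := fun hab haD =>
    mul_mem (mul_mem (hPA _ hab.mem haD)
      (inv_mem (hPB _ hab.mem' (hP.partner_mem_commutator hab haD)))) (hPA _ hab.mem haD)
  have hmem := (mul_mem (inv_mem (hmuP hb (hKD haK))) (hmuP hβ (hKD heK))).2 e heA (hKD heK)
  rw [commutatorElement_def] at hmem
  set v := (mu a b)⁻¹ * mu e β
  have hv1 : v * e * v⁻¹ * e⁻¹ ≠ 1 := fun h => hP.hua_moves hb hβ hae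
    (fun h' => haei (eq_inv_of_mul_eq_one_left h')) (mul_inv_eq_one.mp h)
  have hvA : v * e * v⁻¹ * e⁻¹ ∈ A := hP.comm_diag_le (hP.hua_mem_comm hb hβ)
  -- the intersection of the conjugates of N
  set N₀ := ⨅ c ∈ A, conjBy N c
  have hN₀N : N₀ ≤ N := by
    refine (iInf₂_le 1 (one_mem A)).trans ?_
    rw [conjBy_one]
  have hAnorm : ∀ c ∈ A, ∀ y ∈ N₀, c * y * c⁻¹ ∈ N₀ := by
    intro c hc y hy
    simp only [N₀, Subgroup.mem_iInf, mem_conjBy] at hy ⊢
    intro d hd
    have := hy (c⁻¹ * d) (mul_mem (inv_mem hc) hd)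
    simpa [mul_assoc] using this
  have hDnorm : ∀ g ∈ D, ∀ y ∈ N₀, g * y * g⁻¹ ∈ N₀ := by
    intro g hg y hy
    simp only [N₀, Subgroup.mem_iInf, mem_conjBy] at hy ⊢
    intro d hd
    have := hN _ ((inferInstance : (commutator X).Normal).conj_mem g hg d⁻¹) _ (hy d hd)
    simpa [mul_assoc] using this
  have hnormal : N₀.Normal := ⟨fun y hy g => by
    obtain ⟨d, hd, c, hc, rfl⟩ := Subgroup.mem_sup_of_normal_left.mp
      ((hP.sup_eq_top hX hA) ▸ Subgroup.mem_top g)
    have := hDnorm d hd _ (hAnorm c hc y hy)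
    simpa [mul_assoc] using this⟩
  have hvN₀ : v * e * v⁻¹ * e⁻¹ ∈ N₀ := by
    simp only [N₀, Subgroup.mem_iInf, mem_conjBy]
    intro c hc
    rwa [hP.commA _ (inv_mem hc) _ hvA, inv_mul_cancel_right]
  rcases RankOne.normal_cases hX hP.pair N₀ with h | h
  · exact (commutator_le_of_sup_eq_top hP.commA h).trans hN₀N
  · exact absurd (h hvN₀) (hP.not_center hvA hv1)

theorem SPair.commutator_quasisimple (hP : SPair A B) (hA : 3 < ENat.card A) :
    IsQuasisimple ↥(commutator X) := by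
  obtain ⟨e, heK, he1, -, -⟩ := exists_outside (hP.three_lt_card hA) 1 1
  have heA := hP.comm_diag_le heK
  have heD : e ∈ commutator X :=
    (Subgroup.commutator_mono le_top le_top : ⁅A, rankOneDiagonal A B⁆ ≤ commutator X) heK
  obtain ⟨b, hb⟩ := hP.exists_partner heA he1
  have hbD := hP.partner_mem_commutator hb heD
  refine isQuasisimple_of_cases ?_ heD hbD (RankOne.not_commute hP.pair heA he1 hb.mem' hb.ne')
    fun N hle hN => (hP.normal_of_commutator hX hA hle hN).imp_right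
      fun h => h.trans (Subgroup.center_le_centralizer _)
  refine le_antisymm (Subgroup.commutator_le_self _) ?_
  rcases RankOne.normal_cases hX hP.pair ⁅commutator X, commutator X⁆ with h | h
  · exact commutator_le_of_sup_eq_top hP.commA h
  · exfalso
    have hc := h (Subgroup.commutator_mem_commutator heD hbD)
    rw [commutatorElement_def] at hc
    refine RankOne.commutator_not_fix hP.pair heA he1 hb.mem' hb.ne' (fix_of_commute fun y _ => ?_)
    exact (Subgroup.mem_center_iff.mp hc y).symm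

end Cfsg.Agent.RootSub.Special
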