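import Cfsg.Agent.RootSub.Basic

/-!
# Quadratic modules of rank one groups

Stabilisers of a finite chain in a module act through a nilpotent group; consequences for rank one
groups with a quadratically acting unipotent subgroup.
-/

namespace Cfsg.Agent.RootSub.Quadratic

open Cfsg Cfsg.Agent.RootSub
open scoped commutatorElement

variable {X N : Type*} [Group X] [AddCommGroup N] [DistribMulAction X N]

/-- The elements of X moving every element of T only by elements of U, for a stable U. -/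
def movesInto (T U : AddSubgroup N) (hU : ∀ x : X, ∀ u ∈ U, x • u ∈ U) : Subgroup X where
  carrier := {x | ∀ v ∈ T, x • v - v ∈ U}
  one_mem' := fun v _ => by simp
  mul_mem' := fun {x y} hx hy v hv => by
    have : (x * y) • v - v = x • (y • v - v) + (x • v - v) := by rw [mul_smul, smul_sub]; abel
    rw [this]
    exact add_mem (hU x _ (hy v hv)) (hx v hv)
  inv_mem' := fun {x} hx v hv => by
    have : x⁻¹ • v - v = x⁻¹ • -(x • v - v) := by
      rw [smul_neg, smul_sub, inv_smul_smul]; abel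
    rw [this]
    exact hU _ _ (neg_mem (hx v hv))

theorem mem_movesInto {T U : AddSubgroup N} {hU : ∀ x : X, ∀ u ∈ U, x • u ∈ U} {x : X} :
    x ∈ movesInto T U hU ↔ ∀ v ∈ T, x • v - v ∈ U := Iff.rfl

theorem movesInto_normal {T U : AddSubgroup N} {hU : ∀ x : X, ∀ u ∈ U, x • u ∈ U}
    (hT : ∀ x : X, ∀ u ∈ T, x • u ∈ T) : (movesInto T U hU).Normal := ⟨fun x hx g v hv => by
  have h : (g * x * g⁻¹) • v - v = g • (x • (g⁻¹ • v) - g⁻¹ • v) := by
    simp [mul_smul, smul_sub]
  rw [h]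
  exact hU g _ (hx _ (hT _ _ hv))⟩

/-- The stabiliser of a chain of length n has its n-th lower central term acting trivially. -/
theorem lowerCentral_fix (V : ℕ → AddSubgroup N) (h0 : V 0 = ⊥) (hmono : ∀ i, V i ≤ V (i + 1))
    (hmove : ∀ i, ∀ x : X, ∀ v ∈ V (i + 1), x • v - v ∈ V i) {n : ℕ} (hn : V n = ⊤)
    {x : X} (hx : x ∈ (⊤ : Subgroup X).lowerCentralSeries n) (v : N) : x • v = v := by
  have hst : ∀ i, ∀ g : X, ∀ u ∈ V i, g • u ∈ V i := by
    intro i g u hu
    cases i with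
    | zero => rw [h0, AddSubgroup.mem_bot] at hu ⊢; simp [hu]
    | succ j => simpa using add_mem (hmono j (hmove j g u hu)) hu
  suffices h : ∀ k, ∀ g ∈ (⊤ : Subgroup X).lowerCentralSeries k, ∀ i, ∀ u ∈ V (i + k + 1),
      g • u - u ∈ V i by
    have := h n x hx 0 v (by rw [Nat.zero_add]; exact hmono n (hn ▸ AddSubgroup.mem_top v))
    rw [h0, AddSubgroup.mem_bot, sub_eq_zero] at this
    exact this
  intro k
  induction k with
  | zero => exact fun g _ i u hu => hmove i g u hu
  | succ k ih =>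
    intro g hg i
    suffices (⊤ : Subgroup X).lowerCentralSeries (k + 1) ≤
        movesInto (V (i + (k + 1) + 1)) (V i) (hst i) from this hg
    rw [Subgroup.lowerCentralSeries_succ, Subgroup.commutator_le]
    intro p hp q _ u hu
    have hu2 : p⁻¹ • q⁻¹ • u ∈ V (i + (k + 1) + 1) := hst _ _ _ (hst _ _ _ hu)
    generalize hw : p⁻¹ • q⁻¹ • u = w at hu2
    have h1 : (p * q) • w - (q * p) • w ∈ V i := by
      have e : (p * q) • w - (q * p) • w =
          (p • (q • w - w) - (q • w - w)) - (q • (p • w - w) - (p • w - w)) := by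
        rw [mul_smul, mul_smul, smul_sub, smul_sub]; abel
      rw [e]
      refine sub_mem (ih p hp i _ (hmove _ q w hu2)) (hmove i q _ (ih p hp (i + 1) w ?_))
      rwa [show i + 1 + k + 1 = i + (k + 1) + 1 by omega]
    have e1 : (q * p) • w = u := by rw [← hw, mul_smul, smul_inv_smul, smul_inv_smul]
    have e2 : (p * q) • w = ⁅p, q⁆ • u := by
      rw [← hw, commutatorElement_def]; simp [mul_smul]
    rwa [e1, e2] at h1

/-- A group stabilising a finite chain with central kernel is nilpotent. -/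
theorem nilpotent_of_chain (V : ℕ → AddSubgroup N) (h0 : V 0 = ⊥) (hmono : ∀ i, V i ≤ V (i + 1))
    (hmove : ∀ i, ∀ x : X, ∀ v ∈ V (i + 1), x • v - v ∈ V i) {n : ℕ} (hn : V n = ⊤)
    (hker : ∀ x : X, (∀ v : N, x • v = v) → x ∈ Subgroup.center X) : Group.IsNilpotent X := by
  rw [Subgroup.nilpotent_iff_lowerCentralSeries]
  refine ⟨n + 1, ?_⟩
  rw [Subgroup.lowerCentralSeries_succ, eq_bot_iff, Subgroup.commutator_le]
  intro p hp q _
  rw [Subgroup.mem_bot, commutatorElement_eq_one_iff_mul_comm]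
  exact (Subgroup.mem_center_iff.mp (hker p (lowerCentral_fix V h0 hmono hmove hn hp)) q).symm

theorem fix_of_center {B : Subgroup X} {z : X} (hz : z ∈ Subgroup.center X) : conjBy B z = B := by
  ext y
  rw [mem_conjBy, mul_assoc, Subgroup.mem_center_iff.mp hz y, inv_mul_cancel_left]

/-- The subgroup spanned by the images of n ↦ a • n − n for a in A. -/
def images (N : Type*) [AddCommGroup N] [DistribMulAction X N] (A : Subgroup X) : AddSubgroup N :=
  AddSubgroup.closure {m | ∃ a ∈ A, ∃ n : N, m = a • n - n}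

theorem sub_mem_images {A : Subgroup X} {a : X} (ha : a ∈ A) (n : N) : a • n - n ∈ images N A :=
  AddSubgroup.subset_closure ⟨a, ha, n, rfl⟩

theorem fix_images {A : Subgroup X} (hq : ∀ a ∈ A, ∀ a' ∈ A, ∀ n : N, a' • (a • n - n) = a • n - n)
    {a : X} (ha : a ∈ A) {v : N} (hv : v ∈ images N A) : a • v = v := by
  induction hv using AddSubgroup.closure_induction with
  | mem v hv => obtain ⟨b, hb, n, rfl⟩ := hv; exact hq b hb a ha n
  | zero => exact smul_zero a
  | add u v _ _ hu hv => rw [smul_add, hu, hv]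
  | neg u _ hu => rw [smul_neg, hu]

theorem images_conjBy {A : Subgroup X} (g : X) {v : N} (hv : v ∈ images N A) :
    g • v ∈ images N (conjBy A g) := by
  induction hv using AddSubgroup.closure_induction with
  | mem v hv =>
      obtain ⟨b, hb, n, rfl⟩ := hv
      refine AddSubgroup.subset_closure ⟨g * b * g⁻¹, conjBy_mem hb g, g • n, ?_⟩
      simp [mul_smul, smul_sub]
  | zero => rw [smul_zero]; exact zero_mem _
  | add u v _ _ hu hv => rw [smul_add]; exact add_mem hu hv
  | neg u _ hu => rw [smul_neg]; exact neg_mem hu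

theorem quadratic_conjBy {A : Subgroup X}
    (hq : ∀ a ∈ A, ∀ a' ∈ A, ∀ n : N, a' • (a • n - n) = a • n - n) (g : X) :
    ∀ a ∈ conjBy A g, ∀ a' ∈ conjBy A g, ∀ n : N, a' • (a • n - n) = a • n - n := by
  intro a ha a' ha' n
  have key : ∀ c : X, ∀ m : N, c • m - m = g • ((g⁻¹ * c * g) • (g⁻¹ • m) - g⁻¹ • m) := fun c m => by
    simp [mul_smul, smul_sub]
  have := hq _ (mem_conjBy.mp ha) _ (mem_conjBy.mp ha') (g⁻¹ • n)
  rw [key a n]
  conv_lhs => rw [← mul_smul, show a' * g = g * (g⁻¹ * a' * g) by group, mul_smul, this]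

variable {A B : Subgroup X}

theorem smul_inv_eq (hq : ∀ a ∈ A, ∀ a' ∈ A, ∀ n : N, a' • (a • n - n) = a • n - n) {a : X}
    (ha : a ∈ A) (n : N) : a⁻¹ • n = n - (a • n - n) := by
  conv_lhs => rw [show n = a • n - (a • n - n) by abel]
  rw [smul_sub, inv_smul_smul, fix_images hq (inv_mem ha) (sub_mem_images ha n)]

theorem commute_of_faithful (hf : ∀ x : X, (∀ v : N, x • v = v) → x = 1)
    (hq : ∀ a ∈ A, ∀ a' ∈ A, ∀ n : N, a' • (a • n - n) = a • n - n) {a a' : X} (ha : a ∈ A)
    (ha' : a' ∈ A) : a * a' = a' * a := by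
  have key : ∀ {p q : X}, p ∈ A → q ∈ A → ∀ v : N, (p * q) • v = p • v + q • v - v := by
    intro p q hp hq' v
    have h := hq q hq' p hp v
    rw [smul_sub, sub_eq_iff_eq_add] at h
    rw [mul_smul, h]; abel
  have h1 : (a' * a)⁻¹ * (a * a') = 1 := hf _ fun v => by
    rw [mul_smul, key ha ha', inv_smul_eq_iff, key ha' ha]; abel
  exact (inv_mul_eq_one.mp h1).symm

theorem pow_smul_sub (hq : ∀ a ∈ A, ∀ a' ∈ A, ∀ n : N, a' • (a • n - n) = a • n - n) {a : X}
    (ha : a ∈ A) (v : N) (k : ℕ) : a ^ k • v - v = k • (a • v - v) := by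
  induction k with
  | zero => simp
  | succ k ih =>
      rw [pow_succ', mul_smul, succ_nsmul, ← ih]
      have h : a • (a ^ k • v - v) = a ^ k • v - v := hq _ (pow_mem ha k) a ha v
      rw [smul_sub, sub_eq_iff_eq_add] at h
      rw [h]; abel

theorem exponent_of_faithful (hX : A ⊔ B = ⊤) (h : IsRankOnePair A B)
    (hf : ∀ x : X, (∀ v : N, x • v = v) → x = 1)
    (hq : ∀ a ∈ A, ∀ a' ∈ A, ∀ n : N, a' • (a • n - n) = a • n - n) {p : ℕ} {a : X} (ha : a ∈ A)
    (ha1 : a ≠ 1) (hap : a ^ p = 1) {x : X} (hx : x ∈ A) : x ^ p = 1 := by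
  let P : AddSubgroup N := (nsmulAddMonoidHom p : N →+ N).ker
  have hPmem : ∀ v, v ∈ P ↔ p • v = 0 := fun v => Iff.rfl
  have hP : ∀ g : X, ∀ v ∈ P, g • v ∈ P := fun g v hv => by
    rw [hPmem] at hv ⊢
    have := map_nsmul (DistribSMul.toAddMonoidHom N g) p v
    simp only [DistribSMul.toAddMonoidHom_apply, hv, smul_zero] at this
    exact this.symm
  have hbot : ∀ g : X, ∀ v ∈ (⊥ : AddSubgroup N), g • v ∈ (⊥ : AddSubgroup N) := fun g v hv => by
    rw [AddSubgroup.mem_bot] at hv ⊢; simp [hv]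
  set K := movesInto (X := X) P ⊥ hbot
  have hKn : K.Normal := movesInto_normal hP
  have hxK : x ^ p ∈ K := fun v hv => by
    rw [AddSubgroup.mem_bot, pow_smul_sub hq hx]
    have h1 : x • v - v ∈ P := sub_mem (hP x v hv) hv
    exact h1
  rcases RankOne.normal_cases hX h K with hK | hK
  swap
  · exact RankOne.eq_one_of_fix h (pow_mem hx p)
      (fix_of_center (hK hxK))
  exfalso
  have htop : ∀ g : X, ∀ v ∈ (⊤ : AddSubgroup N), g • v ∈ (⊤ : AddSubgroup N) := fun _ _ _ => trivial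
  set K₂ := movesInto (X := X) ⊤ P hP
  have hK₂n : K₂.Normal := movesInto_normal htop
  have haK : a ∈ K₂ := fun v _ => by
    rw [hPmem, ← pow_smul_sub hq ha, hap, one_smul, sub_self]
  rcases RankOne.normal_cases hX h K₂ with hK₂ | hK₂
  swap
  · exact ha1 (RankOne.eq_one_of_fix h ha (fix_of_center (hK₂ haK)))
  set D := images N A
  have hsup : ∀ M H : Subgroup X, M ⊔ A = ⊤ → M ≤ H → A ≤ H → ∀ g : X, g ∈ H :=
    fun M H hM h1 h2 g => sup_le h1 h2 (hM ▸ Subgroup.mem_top g)
  have hDP : ∀ g : X, ∀ v ∈ D ⊓ P, g • v - v ∈ (⊥ : AddSubgroup N) := fun g =>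
    hsup K (movesInto (D ⊓ P) ⊥ hbot) hK (fun k hk v hv => hk v hv.2)
      (fun c hc v hv => by simp [fix_images hq hc hv.1]) g
  have hDPst : ∀ g : X, ∀ v ∈ D ⊓ P, g • v ∈ D ⊓ P := fun g v hv => by
    have h1 := hDP g v hv
    rw [AddSubgroup.mem_bot, sub_eq_zero] at h1
    rwa [h1]
  have hPD : ∀ g : X, ∀ v ∈ P, g • v - v ∈ D ⊓ P := fun g =>
    hsup K (movesInto P (D ⊓ P) hDPst) hK
      (fun k hk v hv => by rw [AddSubgroup.mem_bot.mp (hk v hv)]; exact zero_mem _)
      (fun c hc v hv => ⟨sub_mem_images hc v, P.sub_mem (hP c v hv) hv⟩) g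
  have hSP : ∀ g : X, ∀ v ∈ P ⊔ D, g • v - v ∈ P := fun g =>
    hsup K₂ (movesInto (P ⊔ D) P hP) hK₂ (fun k hk v _ => hk v trivial)
      (fun c hc v hv => by
        obtain ⟨s, hs, t, ht, rfl⟩ := AddSubgroup.mem_sup.mp hv
        rw [smul_add, fix_images hq hc ht, add_sub_add_right_eq_sub]
        exact sub_mem (hP c s hs) hs) g
  have hSst : ∀ g : X, ∀ v ∈ P ⊔ D, g • v ∈ P ⊔ D := fun g v hv => by
    simpa using add_mem (AddSubgroup.mem_sup_left (T := D) (hSP g v hv)) hv
  have hTS : ∀ g : X, ∀ v ∈ (⊤ : AddSubgroup N), g • v - v ∈ P ⊔ D := fun g =>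
    hsup K₂ (movesInto ⊤ (P ⊔ D) hSst) hK₂
      (fun k hk v hv => AddSubgroup.mem_sup_left (hk v hv))
      (fun c hc v _ => AddSubgroup.mem_sup_right (sub_mem_images hc v)) g
  let V : ℕ → AddSubgroup N := fun i =>
    if i = 0 then ⊥ else if i = 1 then D ⊓ P else if i = 2 then P
      else if i = 3 then P ⊔ D else ⊤
  refine RankOne.not_isNilpotent hX h (nilpotent_of_chain V rfl ?_ ?_ (n := 4) rfl
    fun g hg => hf g hg ▸ one_mem _)
  · intro i
    match i with
    | 0 => simp [V]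
    | 1 => simp [V]
    | 2 => simp [V]
    | _ + 3 => simp [V]
  · intro i g v hv
    rcases i with _ | _ | _ | _ | j <;> simp [V] at hv ⊢
    · simpa using hDP g v hv
    · exact hPD g v hv
    · exact hSP g v hv
    · exact hTS g v trivial

theorem special_of_quadratic (hX : A ⊔ B = ⊤) (h : IsRankOnePair A B)
    (hq : ∀ a ∈ A, ∀ a' ∈ A, ∀ n : N, a' • (a • n - n) = a • n - n)
    (hnot : ∃ x y : X, ∃ n : N, y • (x • n - n) ≠ x • n - n) {a b : X} (ha : a ∈ A)
    (hb : b ∈ B) (he : conjBy A b⁻¹ = conjBy B a⁻¹) :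
    b⁻¹ * a * b = a⁻¹ * b⁻¹ * a := by
  set D := images N A
  set E := images N B
  have hqB : ∀ c ∈ B, ∀ c' ∈ B, ∀ n : N, c' • (c • n - n) = c • n - n := by
    obtain ⟨g, -, hg⟩ := RankOne.right_eq_conj h
    subst hg
    exact quadratic_conjBy hq g
  -- the common fixed points
  let Z : AddSubgroup N :=
    { carrier := {v | ∀ x : X, x • v = v}
      zero_mem' := fun x => smul_zero x
      add_mem' := fun hu hv x => by rw [smul_add, hu x, hv x]
      neg_mem' := fun hu x => by rw [smul_neg, hu x] }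
  have hDE : ∀ v, v ∈ D → v ∈ E → v ∈ Z := by
    intro v hvD hvE x
    have hle : A ⊔ B ≤ MulAction.stabilizer X v :=
      sup_le (fun c hc => fix_images hq hc hvD) (fun c hc => fix_images hqB hc hvE)
    exact hle (hX ▸ Subgroup.mem_top x)
  let αf : N → N := fun v => a • v - v
  let βf : N → N := fun v => b • v - v
  -- modulo Z the elements of D are fixed by αβ and those of E by βα
  have hDfix : ∀ v ∈ D, v - αf (βf v) ∈ Z := by
    intro v hv
    have hmem : a • b⁻¹ • v ∈ E := by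
      have h1 : b⁻¹ • v ∈ images N (conjBy B a⁻¹) := he ▸ images_conjBy b⁻¹ hv
      have h2 := images_conjBy a h1
      rwa [conjBy_cancel_inv] at h2
    set e := a • b⁻¹ • v with hedef
    have h3 : v - βf v = e - αf e := by
      show v - (b • v - v) = e - (a • e - e)
      rw [← smul_inv_eq hqB hb, ← smul_inv_eq hq ha, hedef, inv_smul_smul]
    have hw : v + αf e = e + βf v := by
      rw [sub_eq_sub_iff_add_eq_add] at h3; exact h3
    have hz : e + βf v ∈ Z := hDE _ (hw ▸ add_mem hv (sub_mem_images ha e))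
      (add_mem hmem (sub_mem_images hb v))
    have hz2 : αf (e + βf v) = 0 := by
      show a • (e + βf v) - (e + βf v) = 0
      rw [hz a, sub_self]
    have hz3 : αf (e + βf v) = αf e + αf (βf v) := by
      show a • (e + βf v) - (e + βf v) = (a • e - e) + (a • βf v - βf v)
      rw [smul_add]; abel
    rw [hz3] at hz2
    have : v - αf (βf v) = v + αf e := by rw [eq_neg_of_add_eq_zero_left hz2]; abel
    rw [this, hw]
    exact hz
  have hEfix : ∀ u ∈ E, u - βf (αf u) ∈ Z := by
    intro u hu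
    have hmem : b • a⁻¹ • u ∈ D := by
      have h1 : a⁻¹ • u ∈ images N (conjBy A b⁻¹) := he.symm ▸ images_conjBy a⁻¹ hu
      have h2 := images_conjBy b h1
      rwa [conjBy_cancel_inv] at h2
    set d := b • a⁻¹ • u with hddef
    have h3 : u - αf u = d - βf d := by
      show u - (a • u - u) = d - (b • d - d)
      rw [← smul_inv_eq hq ha, ← smul_inv_eq hqB hb, hddef, inv_smul_smul]
    have hw : u + βf d = d + αf u := by
      rw [sub_eq_sub_iff_add_eq_add] at h3; exact h3
    have hz : d + αf u ∈ Z := hDE _ (add_mem hmem (sub_mem_images ha u))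
      (hw ▸ add_mem hu (sub_mem_images hb d))
    have hz2 : βf (d + αf u) = 0 := by
      show b • (d + αf u) - (d + αf u) = 0
      rw [hz b, sub_self]
    have hz3 : βf (d + αf u) = βf d + βf (αf u) := by
      show b • (d + αf u) - (d + αf u) = (b • d - d) + (b • αf u - αf u)
      rw [smul_add]; abel
    rw [hz3] at hz2
    have : u - βf (αf u) = u + βf d := by rw [eq_neg_of_add_eq_zero_left hz2]; abel
    rw [this, hw]
    exact hz
  -- the two sides agree on N modulo Z
  have hagree : ∀ n : N, (b⁻¹ * a * b) • n - (a⁻¹ * b⁻¹ * a) • n ∈ Z := by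
    intro n
    have ha' : ∀ m : N, a • m = m + αf m := fun m => by show _ = m + (a • m - m); abel
    have hb' : ∀ m : N, b • m = m + βf m := fun m => by show _ = m + (b • m - m); abel
    have hai : ∀ m : N, a⁻¹ • m = m - αf m := fun m => smul_inv_eq hq ha m
    have hbi : ∀ m : N, b⁻¹ • m = m - βf m := fun m => smul_inv_eq hqB hb m
    have haa : ∀ m : N, αf (αf m) = 0 := fun m => sub_eq_zero.mpr (hq a ha a ha m)
    have hbb : ∀ m : N, βf (βf m) = 0 := fun m => sub_eq_zero.mpr (hqB b hb b hb m)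
    have haadd : ∀ m k : N, αf (m + k) = αf m + αf k := fun m k => by
      show a • (m + k) - (m + k) = (a • m - m) + (a • k - k); rw [smul_add]; abel
    have hbadd : ∀ m k : N, βf (m + k) = βf m + βf k := fun m k => by
      show b • (m + k) - (m + k) = (b • m - m) + (b • k - k); rw [smul_add]; abel
    have hasub : ∀ m k : N, αf (m - k) = αf m - αf k := fun m k => by
      show a • (m - k) - (m - k) = (a • m - m) - (a • k - k); rw [smul_sub]; abel
    have hbsub : ∀ m k : N, βf (m - k) = βf m - βf k := fun m k => by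
      show b • (m - k) - (m - k) = (b • m - m) - (b • k - k); rw [smul_sub]; abel
    have e : (b⁻¹ * a * b) • n - (a⁻¹ * b⁻¹ * a) • n =
        (βf n - βf (αf (βf n))) + (αf n - αf (βf (αf n))) := by
      simp only [mul_smul, ha', hb', hai, hbi, haadd, hbadd, hasub, haa, hbb]
      abel
    rw [e]
    exact add_mem (hEfix _ (sub_mem_images hb n)) (hDfix _ (sub_mem_images ha n))
  set w := (a⁻¹ * b⁻¹ * a)⁻¹ * (b⁻¹ * a * b) with hwdef
  suffices hw1 : w = 1 from (inv_mul_eq_one.mp hw1).symm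
  have hZst : ∀ g : X, ∀ v ∈ Z, g • v ∈ Z := fun g v hv => by rwa [hv g]
  have hbot : ∀ g : X, ∀ v ∈ (⊥ : AddSubgroup N), g • v ∈ (⊥ : AddSubgroup N) := fun g v hv => by
    rw [AddSubgroup.mem_bot] at hv ⊢; simp [hv]
  have htop : ∀ g : X, ∀ v ∈ (⊤ : AddSubgroup N), g • v ∈ (⊤ : AddSubgroup N) := fun _ _ _ => trivial
  set K := movesInto (X := X) ⊤ Z hZst
  have hKn : K.Normal := movesInto_normal htop
  have hwK : w ∈ K := fun v _ => by
    have h1 := hagree v
    have h2 : w • v - v = (a⁻¹ * b⁻¹ * a)⁻¹ • ((b⁻¹ * a * b) • v - (a⁻¹ * b⁻¹ * a) • v) := by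
      rw [smul_sub, inv_smul_smul, hwdef, mul_smul]
    rw [h2, h1 _]
    exact h1
  have hwQ : w ∈ conjBy A b⁻¹ := by
    refine mul_mem (inv_mem ?_) (by simpa using conjBy_mem ha b⁻¹)
    rw [he]
    simpa using conjBy_mem (inv_mem hb) a⁻¹
  rcases RankOne.normal_cases hX h K with hK | hK
  swap
  · by_contra hw1
    have hΩ : conjBy A b⁻¹ ∈ unipotentSubgroups A B :=
      ⟨b⁻¹, inv_mem (Subgroup.mem_sup_right hb), rfl⟩
    have hfix : ∀ C : Subgroup X, conjBy C w = C := fun C =>
      fix_of_center (hK hwK)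
    have e1 := RankOne.eq_of_fix_mem h hΩ (self_mem_unipotent A B) hwQ hw1 (hfix A)
    have e2 := RankOne.eq_of_fix_mem h hΩ (RankOne.right_mem h) hwQ hw1 (hfix B)
    exact h.ne (e1.trans e2.symm)
  exfalso
  have hsup : ∀ M H : Subgroup X, M ⊔ A = ⊤ → M ≤ H → A ≤ H → ∀ g : X, g ∈ H :=
    fun M H hM h1 h2 g => sup_le h1 h2 (hM ▸ Subgroup.mem_top g)
  have hS1 : ∀ g : X, ∀ v ∈ Z ⊔ D, g • v - v ∈ Z := fun g =>
    hsup K (movesInto (Z ⊔ D) Z hZst) hK (fun k hk v _ => hk v trivial)
      (fun c hc v hv => by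
        obtain ⟨s, hs, t, ht, rfl⟩ := AddSubgroup.mem_sup.mp hv
        rw [smul_add, fix_images hq hc ht, hs c, sub_self]
        exact zero_mem _) g
  have hSst : ∀ g : X, ∀ v ∈ Z ⊔ D, g • v ∈ Z ⊔ D := fun g v hv => by
    simpa using add_mem (AddSubgroup.mem_sup_left (T := D) (hS1 g v hv)) hv
  have hS2 : ∀ g : X, ∀ v ∈ (⊤ : AddSubgroup N), g • v - v ∈ Z ⊔ D := fun g =>
    hsup K (movesInto ⊤ (Z ⊔ D) hSst) hK
      (fun k hk v hv => AddSubgroup.mem_sup_left (hk v hv))
      (fun c hc v _ => AddSubgroup.mem_sup_right (sub_mem_images hc v)) g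
  let V : ℕ → AddSubgroup N := fun i =>
    match i with
    | 0 => ⊥
    | 1 => Z
    | 2 => Z ⊔ D
    | _ + 3 => ⊤
  set K₀ := movesInto (X := X) (⊤ : AddSubgroup N) ⊥ hbot
  have hK₀n : K₀.Normal := movesInto_normal htop
  rcases RankOne.normal_cases hX h K₀ with hK₀ | hK₀
  · obtain ⟨x, y, n, hxy⟩ := hnot
    have hx : ∀ g : X, ∀ v : N, g • v - v ∈ D := by
      intro g v
      obtain ⟨k, hk, c, hc, rfl⟩ :=
        Subgroup.mem_sup_of_normal_left.mp (hK₀ ▸ Subgroup.mem_top g)
      rw [mul_smul, sub_eq_zero.mp (AddSubgroup.mem_bot.mp (hk (c • v) trivial))]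
      exact sub_mem_images hc v
    obtain ⟨k, hk, c, hc, rfl⟩ :=
      Subgroup.mem_sup_of_normal_left.mp (hK₀ ▸ Subgroup.mem_top y)
    apply hxy
    rw [mul_smul, fix_images hq hc (hx x n),
      sub_eq_zero.mp (AddSubgroup.mem_bot.mp (hk (x • n - n) trivial))]
  refine RankOne.not_isNilpotent hX h (nilpotent_of_chain V rfl ?_ ?_ (n := 3) rfl
    fun g hg => hK₀ fun v _ => by rw [AddSubgroup.mem_bot, hg v, sub_self])
  · intro i
    match i with
    | 0 => exact bot_le
    | 1 => exact le_sup_left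
    | _ + 2 => exact le_top
  · intro i g v hv
    match i with
    | 0 =>
      show g • v - v ∈ (⊥ : AddSubgroup N)
      rw [AddSubgroup.mem_bot, hv g, sub_self]
    | 1 => exact hS1 g v hv
    | 2 => exact hS2 g v trivial
    | _ + 3 => trivial

end Cfsg.Agent.RootSub.Quadratic
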