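import Cfsg.Agent.RootSub.Special.Partner
import Cfsg.Agent.RootSub.Calculus

/-!
# Three members: two commuting ones and a common rank one partner

If A and C commute and both form rank one pairs with B, the pair (A, B) is special.
-/

namespace Cfsg.Agent.RootSub.Braid

open Cfsg

variable {G : Type*} [Group G] {S : Set (Subgroup G)} {A B C : Subgroup G}

/-- The element attached to b and f = a⁻¹ c. -/
def bridge (f b : G) : G := b⁻¹ * (f * b * f⁻¹)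

/-- The relations between a, b, c, f = a⁻¹ c and the bridge g. -/
structure Data (A B C : Subgroup G) (a b c : G) : Prop where
  memA : a ∈ A
  memB : b ∈ B
  memC : c ∈ C
  ac : a * c = c * a
  shiftBot : ⁅B, conjBy B (a⁻¹ * c)⁆ = ⊥
  shiftMeet : B ⊓ conjBy B (a⁻¹ * c) = ⊥
  gb : bridge (a⁻¹ * c) b * b = b * bridge (a⁻¹ * c) b
  carry : conjBy A (bridge (a⁻¹ * c) b) = C
  conjA : bridge (a⁻¹ * c) b * a * (bridge (a⁻¹ * c) b)⁻¹ = c
  eqA : conjBy A b = conjBy B a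

theorem data (hS : IsRootSubgroupSet S) (hA : A ∈ S) (hB : B ∈ S) (hp : IsRankOnePair A B)
    (hq : IsRankOnePair C B) (hAC : ⁅A, C⁆ = ⊥) (hne : C ≠ A) {a b c : G} (ha : a ∈ A)
    (hb : b ∈ B) (hc : c ∈ C) (he : conjBy A b = conjBy B a) (he' : conjBy C b = conjBy B c) :
    Data A B C a b c := by
  have hac : a * c = c * a := commute_of_bot hAC ha hc
  have hB' : conjBy B (a⁻¹ * c) = conjBy C (a⁻¹ * b) := by
    rw [← conjBy_conjBy, ← he', conjBy_conjBy]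
  have hB0 : conjBy A (a⁻¹ * b) = B := by
    rw [← conjBy_conjBy, he, conjBy_inv_cancel]
  have hbot : ⁅B, conjBy B (a⁻¹ * c)⁆ = ⊥ := by
    rw [hB', ← hB0, conjBy_bot_iff]
    exact hAC
  have hneq : B ≠ conjBy B (a⁻¹ * c) := by
    intro hh
    rw [hB'] at hh
    exact hne (conjBy_injective (a⁻¹ * b) (hh.symm.trans hB0.symm))
  have hmeet : B ⊓ conjBy B (a⁻¹ * c) = ⊥ :=
    inf_eq_bot_of_partner hS hA (hS.conj_mem B hB _) (RankOnePair_symm hp) hneq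
  have hb' : a⁻¹ * c * b * (a⁻¹ * c)⁻¹ ∈ conjBy B (a⁻¹ * c) := conjBy_mem hb _
  have hgb : bridge (a⁻¹ * c) b * b = b * bridge (a⁻¹ * c) b := by
    have h1 := (commute_of_bot hbot hb hb').symm
    rw [bridge, mul_assoc, h1, ← mul_assoc, inv_mul_cancel, one_mul, ← mul_assoc b,
      mul_inv_cancel, one_mul]
  have hfA : conjBy A (a⁻¹ * c) = A := by
    rw [← conjBy_conjBy, fix_of_bot (bot_comm hAC) hc, conjBy_mem_self (inv_mem ha)]
  have hfA' : conjBy A (a⁻¹ * c)⁻¹ = A := by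
    conv_lhs => rw [← hfA]
    rw [conjBy_inv_cancel]
  have hfa : a⁻¹ * c * a = c := by rw [mul_assoc, ← hac, inv_mul_cancel_left]
  have hcarry : conjBy A (bridge (a⁻¹ * c) b) = C := by
    rw [show bridge (a⁻¹ * c) b = b⁻¹ * ((a⁻¹ * c) * b) * (a⁻¹ * c)⁻¹ by
      simp only [bridge, mul_assoc], ← conjBy_conjBy, hfA', ← conjBy_conjBy, ← conjBy_conjBy, he,
      conjBy_conjBy B (a⁻¹ * c), hfa, ← he', conjBy_inv_cancel]
  refine ⟨ha, hb, hc, hac, hbot, hmeet, hgb, hcarry, ?_, he⟩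
  have hgB : conjBy B (bridge (a⁻¹ * c) b) = B := by
    rw [bridge, ← conjBy_conjBy, fix_of_bot (bot_comm hbot) hb', conjBy_mem_self (inv_mem hb)]
  have hgB' : conjBy B (bridge (a⁻¹ * c) b)⁻¹ = B := by
    conv_lhs => rw [← hgB]
    rw [conjBy_inv_cancel]
  set g := bridge (a⁻¹ * c) b
  refine RankOne.conjBy_right_inj hq (a' := c) ?_ hc ?_
  · rw [← hcarry]; exact conjBy_mem ha g
  · rw [← conjBy_conjBy, hgB', ← conjBy_conjBy, ← he, conjBy_conjBy, hgb, ← conjBy_conjBy, hcarry,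
      he']

namespace Data

variable {a b c : G} (d : Data A B C a b c)
include d

theorem af : a * (a⁻¹ * c) = (a⁻¹ * c) * a := by
  rw [mul_inv_cancel_left, mul_assoc, ← d.ac, inv_mul_cancel_left]

omit d in
theorem twist : b⁻¹ * (a⁻¹ * c) * b = bridge (a⁻¹ * c) b * (a⁻¹ * c) := by
  simp [bridge, mul_assoc]

theorem braid : b * a * b⁻¹ = a * b⁻¹ * a⁻¹ := by
  set f := a⁻¹ * c with hf
  set g := bridge f b with hg
  have haf : a * f = f * a := d.af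
  have htw : b⁻¹ * f * b = g * f := twist
  have hgb : g * b = b * g := d.gb
  have hga : g * a * g⁻¹ = a * f := by
    rw [hg, d.conjA, hf, mul_inv_cancel_left]
  have haga : a * g * a⁻¹ = f⁻¹ * g := by
    have h1 : g * a = a * f * g := mul_inv_eq_iff_eq_mul.mp hga
    rw [haf, mul_assoc] at h1
    rw [eq_inv_mul_iff_mul_eq, ← mul_assoc, ← h1, mul_inv_cancel_right]
  have e1 : a * b⁻¹ * a⁻¹ * f * (a * b⁻¹ * a⁻¹)⁻¹ = f⁻¹ * g * f := by
    calc a * b⁻¹ * a⁻¹ * f * (a * b⁻¹ * a⁻¹)⁻¹ = a * (b⁻¹ * (a⁻¹ * (f * a)) * b) * a⁻¹ := by group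
      _ = a * (b⁻¹ * f * b) * a⁻¹ := by rw [← haf, inv_mul_cancel_left]
      _ = a * g * a⁻¹ * (a * f * a⁻¹) := by rw [htw]; group
      _ = f⁻¹ * g * f := by rw [haga, haf, mul_inv_cancel_right]
  have hbfg : b * (f⁻¹ * g * f) * b⁻¹ = f⁻¹ * g * f := by
    have h1 : b * f⁻¹ = f⁻¹ * g * b := by
      have h2 : f⁻¹ = (b⁻¹ * f * b)⁻¹ * g := by rw [htw]; group
      calc b * f⁻¹ = b * ((b⁻¹ * f * b)⁻¹ * g) := by rw [← h2]
        _ = f⁻¹ * (b * g) := by group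
        _ = f⁻¹ * g * b := by rw [← hgb, mul_assoc]
    have h3 : f * b⁻¹ = b⁻¹ * g⁻¹ * f := by
      have := congrArg (·⁻¹) h1
      simpa [mul_assoc] using this
    calc b * (f⁻¹ * g * f) * b⁻¹ = b * f⁻¹ * g * (f * b⁻¹) := by group
      _ = f⁻¹ * g * (b * g) * b⁻¹ * g⁻¹ * f := by rw [h1, h3]; group
      _ = f⁻¹ * g * f := by rw [← hgb]; group
  have e2 : b * a * b⁻¹ * f * (b * a * b⁻¹)⁻¹ = f⁻¹ * g * f := by
    calc b * a * b⁻¹ * f * (b * a * b⁻¹)⁻¹ = b * (a * (b⁻¹ * f * b) * a⁻¹) * b⁻¹ := by group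
      _ = b * (a * g * a⁻¹ * (a * f * a⁻¹)) * b⁻¹ := by rw [htw]; group
      _ = f⁻¹ * g * f := by rw [haga, haf, mul_inv_cancel_right, hbfg]
  set u := a * b⁻¹ * a⁻¹ with hu
  set v := b * a * b⁻¹ with hv
  have hw : (u⁻¹ * v) * f * (u⁻¹ * v)⁻¹ = f := by
    calc (u⁻¹ * v) * f * (u⁻¹ * v)⁻¹ = u⁻¹ * (v * f * v⁻¹) * u := by group
      _ = f := by rw [e2, ← e1]; group
  have hvm : v ∈ conjBy B a := d.eqA ▸ conjBy_mem d.memA b
  have hum : u ∈ conjBy B a := conjBy_mem (inv_mem d.memB) a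
  have hwm : a⁻¹ * (u⁻¹ * v) * a ∈ B := mem_conjBy.mp (mul_mem (inv_mem hum) hvm)
  have hwm' : a⁻¹ * (u⁻¹ * v) * a ∈ conjBy B f := by
    rw [mem_conjBy]
    have hfw : f⁻¹ * (u⁻¹ * v) * f = u⁻¹ * v := by
      rw [mul_assoc, mul_inv_eq_iff_eq_mul.mp hw, inv_mul_cancel_left]
    have : f⁻¹ * (a⁻¹ * (u⁻¹ * v) * a) * f = a⁻¹ * (f⁻¹ * (u⁻¹ * v) * f) * a := by
      calc f⁻¹ * (a⁻¹ * (u⁻¹ * v) * a) * f = (a * f)⁻¹ * (u⁻¹ * v) * (a * f) := by group
        _ = (f * a)⁻¹ * (u⁻¹ * v) * (f * a) := by rw [haf]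
        _ = a⁻¹ * (f⁻¹ * (u⁻¹ * v) * f) * a := by group
    rw [this, hfw]
    exact hwm
  have h1 : a⁻¹ * (u⁻¹ * v) * a = 1 := Subgroup.mem_bot.mp (d.shiftMeet ▸ ⟨hwm, hwm'⟩)
  have h2 : u⁻¹ * v = 1 := by
    have := congrArg (fun x => a * x * a⁻¹) h1
    simpa [mul_assoc] using this
  exact (inv_mul_eq_one.mp h2).symm

end Data

/-- A pair with a common rank one partner of a commuting member is special. -/
theorem special (hS : IsRootSubgroupSet S) (hA : A ∈ S) (hB : B ∈ S) (hp : IsRankOnePair A B)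
    (hq : IsRankOnePair C B) (hAC : ⁅A, C⁆ = ⊥) (hne : C ≠ A) : IsSpecialRankOnePair A B := by
  refine ⟨hp, fun a ha _ b hb hb1 he => ?_⟩
  obtain ⟨c, hc, -, hbc⟩ := hq.cond_right b hb hb1
  have h := (data hS hA hB hp hq hAC hne (inv_mem ha) (inv_mem hb) (inv_mem hc) he hbc.symm).braid
  have h2 := congrArg (·⁻¹) h
  simp only [mul_inv_rev, inv_inv, ← mul_assoc] at h2
  exact h2

theorem spair (hS : IsRootSubgroupSet S) (hA : A ∈ S) (hB : B ∈ S) (hp : IsRankOnePair A B)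
    (hq : IsRankOnePair C B) (hAC : ⁅A, C⁆ = ⊥) (hne : C ≠ A) : Special.SPair A B :=
  .of_special (special hS hA hB hp hq hAC hne) ⟨hS.commutative A hA, hS.commutative B hB⟩

end Cfsg.Agent.RootSub.Braid
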