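import Cfsg.Agent.RootSub.Special.DegenerateCube
import Cfsg.Agent.RootSub.Component
import Cfsg.Agent.RootSub.SL2

/-!
# Rank one pairs of a degenerate class are special

Either some member commuting with A is a partner of B, and the pair is special by the braid
argument, or A and B have the same commuting members; then the relation "same commuting members and
not commuting" is an equivalence on which the rank one group acts through a commutative image of A,
against the perfect subgroup given by hypothesis.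
-/

namespace Cfsg.Agent.RootSub.Degenerate

open Cfsg Relation
open scoped commutatorElement MatrixGroups

variable {G : Type*} [Group G] {S : Set (Subgroup G)} {A B C P E F : Subgroup G}

theorem commuting_conj (hS : IsRootSubgroupSet S) (g : G) :
    conjBy F g ∈ commutingPartners S (conjBy E g) ↔ F ∈ commutingPartners S E := by
  constructor
  · rintro ⟨h1, h2, h3⟩
    refine ⟨?_, fun h => h2 (by rw [h]), (conjBy_bot_iff g).mp h3⟩
    simpa [conjBy_inv_cancel] using hS.conj_mem _ h1 g⁻¹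
  · rintro ⟨h1, h2, h3⟩
    exact ⟨hS.conj_mem F h1 g, fun h => h2 (conjBy_injective g h), (conjBy_bot_iff g).mpr h3⟩

theorem commuting_conj' (hS : IsRootSubgroupSet S) (g : G) :
    F ∈ commutingPartners S (conjBy E g) ↔ conjBy F g⁻¹ ∈ commutingPartners S E := by
  have := commuting_conj (E := E) (F := conjBy F g⁻¹) hS g
  rwa [conjBy_cancel_inv] at this

theorem commuting_comm (hE : E ∈ S) (h : F ∈ commutingPartners S E) :
    E ∈ commutingPartners S F :=
  ⟨hE, h.2.1.symm, bot_comm h.2.2⟩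

/-- Same commuting members, and not commuting. -/
structure Rel (S : Set (Subgroup G)) (E F : Subgroup G) : Prop where
  eq : commutingPartners S E = commutingPartners S F
  notMem : F ∉ commutingPartners S E

theorem Rel.refl : Rel S E E := ⟨rfl, fun h => h.2.1 rfl⟩

theorem Rel.symm (h : Rel S E F) (hE : E ∈ S) (hF : F ∈ S) : Rel S F E :=
  ⟨h.eq.symm, fun h' => h.notMem (commuting_comm hF h')⟩

theorem Rel.trans {H : Subgroup G} (h : Rel S E F) (h' : Rel S F H) : Rel S E H :=
  ⟨h.eq.trans h'.eq, fun hm => h'.notMem (h.eq ▸ hm)⟩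

theorem Rel.conj (hS : IsRootSubgroupSet S) (h : Rel S E F) (g : G) :
    Rel S (conjBy E g) (conjBy F g) := by
  refine ⟨?_, fun hm => h.notMem ((commuting_conj hS g).mp hm)⟩
  ext X
  rw [commuting_conj' hS, commuting_conj' hS, h.eq]

theorem Rel.closed {H : Subgroup G} (h : Rel S E F) (hE : E ∈ S) (hF : F ∈ S) (hH : H ∈ S)
    (hm : E ∈ commutingPartners S H) : F ∈ commutingPartners S H :=
  commuting_comm hF (h.eq ▸ commuting_comm hH hm)

/-- An element permuting the classes with fixed image of a generator fixes the class of E. -/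
theorem rel_of_stable (hS : IsRootSubgroupSet S) (hE : E ∈ S) {τ : G}
    (h : ∀ Q ∈ commutingPartners S E, conjBy Q τ ∈ commutingPartners S E)
    (h' : ∀ Q ∈ commutingPartners S E, conjBy Q τ⁻¹ ∈ commutingPartners S E) :
    Rel S (conjBy E τ) E := by
  have heq : commutingPartners S (conjBy E τ) = commutingPartners S E := by
    ext X
    rw [commuting_conj' hS]
    refine ⟨fun hX => ?_, h' X⟩
    simpa [conjBy_cancel_inv] using h _ hX
  refine ⟨heq, fun hm => ?_⟩
  have h2 := commuting_comm (hS.conj_mem E hE τ) hm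
  rw [← heq] at h2
  exact h2.2.1 rfl

theorem exists_sl2_commutator {k : Type*} [Field k] (hk : 3 < ENat.card k) {A₀ B₀ : Subgroup G}
    (h : IsPSL2PairOver k A₀ B₀) : ∃ x ∈ A₀ ⊔ B₀, ∃ y ∈ A₀, ⁅x, y⁆ ∈ A₀ ∧ ⁅x, y⁆ ≠ 1 := by
  classical
  obtain ⟨φ, hr, hker, hup, -⟩ := h
  obtain ⟨t, ht0, ht1⟩ : ∃ t : k, t ≠ 0 ∧ t * t ≠ 1 := by
    by_contra hcon
    push Not at hcon
    have hsub : (Set.univ : Set k) ⊆ ({0, 1, -1} : Finset k) := fun x _ => by
      by_cases hx : x = 0
      · simp [hx]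
      · rcases mul_self_eq_one_iff.mp (hcon x hx) with h | h <;> simp [h]
    have hle : ENat.card k ≤ 3 := by
      rw [← Set.encard_univ]
      refine (Set.encard_le_encard hsub).trans ?_
      rw [Set.encard_coe_eq_coe_finsetCard]
      exact_mod_cast Finset.card_le_three
    exact absurd hle (not_le.mpr hk)
  let d : SL(2, k) := ⟨!![t, 0; 0, t⁻¹], by simp [Matrix.det_fin_two, ht0]⟩
  have hcomm : ⁅d, SL2.up 1⁆ = SL2.up (t * t - 1) := by
    have h1 : d * SL2.up 1 = SL2.up (t * t) * d := by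
      apply Subtype.ext
      rw [Matrix.SpecialLinearGroup.coe_mul, Matrix.SpecialLinearGroup.coe_mul, SL2.coe_up, SL2.coe_up]
      ext i j
      fin_cases i <;> fin_cases j <;>
        simp [d, Matrix.mul_apply, Fin.sum_univ_two, mul_assoc, ht0]
    rw [commutatorElement_def, h1, mul_inv_cancel_right, SL2.up_inv, ← SL2.up_add, sub_eq_add_neg]
  refine ⟨φ d, hr ▸ ⟨d, rfl⟩, φ (SL2.up 1), hup ▸ ⟨_, SL2.mem_upper.mpr ⟨1, rfl⟩, rfl⟩, ?_⟩
  rw [← map_commutatorElement, hcomm]
  refine ⟨hup ▸ ⟨_, SL2.mem_upper.mpr ⟨_, rfl⟩, rfl⟩, fun he => ?_⟩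
  have hc := Subgroup.mem_center_iff.mp (hker (MonoidHom.mem_ker.mpr he)) (SL2.low 1)
  have h00 := congrArg (fun g : SL(2, k) => g 0 0) hc
  simp [SL2.coe_up, SL2.coe_low, Matrix.SpecialLinearGroup.coe_mul, Matrix.mul_apply,
    Fin.sum_univ_two] at h00
  exact ht1 h00.symm

/-- The configuration in which A and B have the same commuting members. -/
structure Config (S : Set (Subgroup G)) (A B C P : Subgroup G) : Prop where
  set : IsRootSubgroupSet S
  deg : IsDegenerateRootSet S
  memA : A ∈ S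
  memB : B ∈ S
  memP : P ∈ S
  pAB : IsRankOnePair A B
  pAP : IsRankOnePair A P
  pBP : IsRankOnePair B P
  memC : C ∈ commutingPartners S A
  pCP : IsRankOnePair C P
  same : commutingPartners S A = commutingPartners S B

namespace Config

variable (K : Config S A B C P)
include K

theorem central {Q : Subgroup G} (hQ : Q ∈ commutingPartners S A) {q x : G} (hq : q ∈ Q)
    (hx : x ∈ A ⊔ B) : q * x = x * q :=
  sup_le_centralizer (fun y hy => commute_of_bot (bot_comm hQ.2.2) hq hy)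
    (fun y hy => commute_of_bot (bot_comm (K.same ▸ hQ).2.2) hq hy) x hx

theorem relAB : Rel S A B :=
  ⟨K.same, fun h => RankOne.not_bot K.pAB h.2.2⟩

theorem faithful {a : G} (ha : a ∈ A) (h : Rel S (conjBy P a) P) : a = 1 := by
  by_contra hne
  obtain ⟨p, hp, -, he⟩ := K.pAP.cond_left a⁻¹ (inv_mem ha) (inv_ne_one.mpr hne)
  rw [inv_inv] at he
  rw [← he] at h
  have h2 := h.conj K.set p
  rw [conjBy_cancel_inv, conjBy_mem_self hp] at h2
  exact RankOne.not_bot (RankOnePair_symm K.pCP) (h2.eq ▸ K.memC).2.2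

/-- An element of the rank one group fixing the class of P fixes the classes of the P-conjugates
of A. -/
theorem stable {τ p : G} (hτ : τ ∈ A ⊔ B) (hfix : Rel S (conjBy P τ) P) (hp : p ∈ P)
    {Q : Subgroup G} (hQ : Q ∈ commutingPartners S (conjBy A p)) :
    conjBy Q τ ∈ commutingPartners S (conjBy A p) := by
  have hS := K.set
  have hQ' : conjBy Q p⁻¹ ∈ commutingPartners S A := (commuting_conj' hS p).mp hQ
  have hQeq : conjBy (conjBy Q p⁻¹) p = Q := conjBy_cancel_inv Q p
  rcases dich hS K.deg hQ'.1 K.memP with h | h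
  · have h1 : Q = conjBy Q p⁻¹ := by
      conv_lhs => rw [← hQeq]
      exact fix_of_bot (bot_comm h) hp
    rw [← h1] at hQ'
    have h2 : conjBy Q τ = Q := fix_of_commute fun q hq => (K.central hQ' hq hτ).symm
    rwa [h2]
  · by_cases hp1 : p = 1
    · subst hp1
      simp only [inv_one, conjBy_one] at hQ' hQ ⊢
      rwa [fix_of_commute fun q hq => (K.central hQ' hq hτ).symm]
    · obtain ⟨c, hc, -, he⟩ := (RankOnePair_symm h).cond_left p⁻¹ (inv_mem hp)
        (inv_ne_one.mpr hp1)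
      have he' : Q = conjBy P c⁻¹ := by
        conv_lhs => rw [← hQeq]
        rw [inv_inv] at he
        exact he.symm
      have hrel : Rel S (conjBy Q τ) Q := by
        rw [he', conjBy_conjBy, ← K.central hQ' (inv_mem hc) hτ, ← conjBy_conjBy]
        exact hfix.conj hS c⁻¹
      exact (hrel.symm (hS.conj_mem Q hQ.1 τ) hQ.1).closed hQ.1 (hS.conj_mem Q hQ.1 τ)
        (hS.conj_mem A K.memA p) hQ

end Config

/-- x acts on the classes of the conjugates of P by A as a. -/
def Acts (S : Set (Subgroup G)) (A P : Subgroup G) (x a : G) : Prop :=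
  ∀ a' ∈ A, Rel S (conjBy P (x * a')) (conjBy P (a * a'))

theorem no_commutator (K : Config S A B C P) {x y : G} (hx : x ∈ A ⊔ B) (hy : y ∈ A ⊔ B)
    (hm : ⁅x, y⁆ ∈ A) : ⁅x, y⁆ = 1 := by
  have hS := K.set
  have hP := K.memP
  let L : Subgroup G :=
    { carrier := {x | ∃ a ∈ A, Acts S A P x a}
      one_mem' := ⟨1, one_mem _, fun _ _ => Rel.refl⟩
      mul_mem' := by
        rintro x y ⟨a, ha, hxa⟩ ⟨b, hb, hyb⟩
        refine ⟨a * b, mul_mem ha hb, fun a' ha' => ?_⟩
        have h1 := (hyb a' ha').conj hS x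
        rw [conjBy_conjBy, conjBy_conjBy, ← mul_assoc] at h1
        refine h1.trans ?_
        rw [mul_assoc a]
        exact hxa _ (mul_mem hb ha')
      inv_mem' := by
        rintro x ⟨a, ha, hxa⟩
        refine ⟨a⁻¹, inv_mem ha, fun a' ha' => ?_⟩
        have h1 := (hxa (a⁻¹ * a') (mul_mem (inv_mem ha) ha')).conj hS x⁻¹
        rw [conjBy_conjBy, conjBy_conjBy, inv_mul_cancel_left, mul_inv_cancel_left] at h1
        exact h1.symm (hS.conj_mem P hP _) (hS.conj_mem P hP _) }
  have hA : A ≤ L := fun a ha => ⟨a, ha, fun _ _ => Rel.refl⟩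
  have hB : B ≤ L := by
    intro b hb
    by_cases hb1 : b = 1
    · exact hb1 ▸ L.one_mem
    obtain ⟨p, hp, hp1, he⟩ := K.pBP.cond_left b⁻¹ (inv_mem hb) (inv_ne_one.mpr hb1)
    obtain ⟨a, ha, -, he'⟩ := (RankOnePair_symm K.pAP).cond_left p (hp) hp1
    rw [inv_inv] at he
    -- the classes of the images of P under a and b agree
    have hrel : Rel S (conjBy P b) (conjBy P a⁻¹) := by
      rw [← he, he']
      exact (K.relAB.symm K.memA K.memB).conj hS p⁻¹
    have hfix : Rel S (conjBy P (b⁻¹ * a⁻¹)) P := by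
      have h1 := (hrel.symm (hS.conj_mem P hP _) (hS.conj_mem P hP _)).conj hS b⁻¹
      rwa [conjBy_inv_cancel, conjBy_conjBy] at h1
    have hfix' : Rel S (conjBy P (b⁻¹ * a⁻¹)⁻¹) P := by
      have h1 := hfix.conj hS (b⁻¹ * a⁻¹)⁻¹
      rw [conjBy_inv_cancel] at h1
      exact h1.symm hP (hS.conj_mem P hP _)
    have hτ : b⁻¹ * a⁻¹ ∈ A ⊔ B :=
      mul_mem (inv_mem (Subgroup.mem_sup_right hb)) (inv_mem (Subgroup.mem_sup_left ha))
    refine ⟨a⁻¹, inv_mem ha, fun a' ha' => ?_⟩
    have key : Rel S (conjBy P (b⁻¹ * a⁻¹ * a')) (conjBy P a') := by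
      by_cases ha1 : a' = 1
      · rw [ha1, mul_one, conjBy_one]; exact hfix
      obtain ⟨q, hq, -, heq⟩ := K.pAP.cond_left a'⁻¹ (inv_mem ha') (inv_ne_one.mpr ha1)
      rw [inv_inv] at heq
      rw [← conjBy_conjBy, ← heq]
      exact rel_of_stable hS (hS.conj_mem A K.memA _)
        (fun Q hQ => K.stable hτ hfix (inv_mem hq) hQ)
        (fun Q hQ => K.stable (inv_mem hτ) hfix' (inv_mem hq) hQ)
    have h2 := key.conj hS b
    rw [conjBy_conjBy, conjBy_conjBy, ← mul_assoc, ← mul_assoc, mul_inv_cancel, one_mul] at h2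
    exact h2.symm (hS.conj_mem P hP _) (hS.conj_mem P hP _)
  obtain ⟨a, ha, hxa⟩ := (sup_le hA hB) hx
  obtain ⟨b, hb, hyb⟩ := (sup_le hA hB) hy
  refine K.faithful hm ?_
  have mulActs : ∀ {u v s t : G}, t ∈ A → Acts S A P u s → Acts S A P v t →
      Acts S A P (u * v) (s * t) := by
    intro u v s t ht hu hv a' ha'
    have h1 := (hv a' ha').conj hS u
    rw [conjBy_conjBy, conjBy_conjBy, ← mul_assoc] at h1
    refine h1.trans ?_
    rw [mul_assoc s]
    exact hu _ (mul_mem ht ha')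
  have invActs : ∀ {u s : G}, s ∈ A → Acts S A P u s → Acts S A P u⁻¹ s⁻¹ := by
    intro u s hs hu a' ha'
    have h1 := (hu (s⁻¹ * a') (mul_mem (inv_mem hs) ha')).conj hS u⁻¹
    rw [conjBy_conjBy, conjBy_conjBy, inv_mul_cancel_left, mul_inv_cancel_left] at h1
    exact h1.symm (hS.conj_mem P hP _) (hS.conj_mem P hP _)
  have h := mulActs (inv_mem hb) (mulActs (inv_mem ha) (mulActs hb hxa hyb) (invActs ha hxa))
    (invActs hb hyb) 1 (one_mem _)
  have hab : a * b * a⁻¹ * b⁻¹ = 1 := by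
    rw [IsRootSubgroupSet.commute_self hS K.memA ha hb]; group
  rw [hab, mul_one, one_mul, conjBy_one, ← commutatorElement_def] at h
  exact h

/-- Every rank one pair of a degenerate class is special. -/
theorem special (hS : IsRootSubgroupClass S) (hdeg : IsDegenerateRootSet S)
    (hcomm : ∃ A ∈ S, ∃ C ∈ S, A ≠ C ∧ ⁅A, C⁆ = ⊥) (hA : A ∈ S) (hB : B ∈ S)
    (hp : IsRankOnePair A B)
    (hH : (∀ A ∈ S, ∀ a ∈ A, 0 < orderOf a ∧ orderOf a ≤ 3) →
      ∃ x ∈ A ⊔ B, ∃ y ∈ A ⊔ B, ⁅x, y⁆ ∈ A ∧ ⁅x, y⁆ ≠ 1) :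
    IsSpecialRankOnePair A B := by
  obtain ⟨hS, hcl⟩ := hS
  by_cases hall : ∀ M ∈ commutingPartners S A, ⁅M, B⁆ = ⊥
  swap
  · push Not at hall
    obtain ⟨M, hM, hMB⟩ := hall
    exact Braid.special hS hA hB hp ((dich hS hdeg hM.1 hB).resolve_left hMB) hM.2.2 hM.2.1
  exfalso
  -- equal sets of commuting members
  have hsame : commutingPartners S A = commutingPartners S B := by
    obtain ⟨x, -, hxA, hxB⟩ :=
      RankOne.exists_transport hp (RankOne.right_mem hp) (self_mem_unipotent A B) hp.ne.symm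
    ext M
    constructor
    · intro hM
      exact ⟨hM.1, fun he => RankOne.not_bot hp (he ▸ hM.2.2), bot_comm (hall M hM)⟩
    · intro hM
      refine ⟨hM.1, fun he => RankOne.not_bot hp (bot_comm (he ▸ hM.2.2)), bot_comm ?_⟩
      rw [← hxA, commuting_conj' hS] at hM
      have h := hall _ hM
      rwa [← conjBy_bot_iff x, conjBy_cancel_inv, hxB] at h
  -- a member C commuting with A and a common partner P
  obtain ⟨A₁, hA₁, C₁, hC₁, hne₁, hbot₁⟩ := hcomm
  obtain ⟨g, hg⟩ := hcl.2 A₁ hA₁ A hA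
  have hC₀ : conjBy C₁ g ∈ commutingPartners S A := by
    rw [hg, commuting_conj hS]; exact ⟨hC₁, hne₁.symm, hbot₁⟩
  have hconn : IsConnectedFamily (FAdj S) S :=
    (connected_iff hS ⟨A₁, hA₁, C₁, hC₁, hne₁⟩).mpr
      ⟨hcl, A, hA, (not_isolated_iff hA).mpr ⟨B, hB, hp⟩⟩
  obtain ⟨C, hC, P, hP, hCP, hPA⟩ : ∃ C ∈ commutingPartners S A, ∃ P ∈ S,
      IsRankOnePair C P ∧ P ∉ commutingPartners S A := by
    by_contra hcon
    push Not at hcon
    have hin : ∀ E, ReflTransGen (FAdj S) (conjBy C₁ g) E → E ∈ commutingPartners S A := by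
      intro E hE
      induction hE with
      | refl => exact hC₀
      | tail _ hbc ih => exact hcon _ ih _ hbc.2.1 hbc.2.2
    exact (hin A (hconn _ hC₀.1 A hA)).2.1 rfl
  have hPne : P ≠ A := fun he => RankOne.not_bot hCP (bot_comm (he ▸ hC.2.2))
  have hAP : IsRankOnePair A P :=
    (dich hS hdeg hA hP).resolve_left fun h => hPA ⟨hP, hPne, h⟩
  have hBP : IsRankOnePair B P := by
    refine (dich hS hdeg hB hP).resolve_left fun h => hPA ?_
    rw [hsame]
    refine ⟨hP, fun he => ?_, h⟩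
    exact RankOne.not_bot hCP (bot_comm (he ▸ (hsame ▸ hC).2.2))
  -- the order bound
  have hord : ∀ a ∈ A, 0 < orderOf a ∧ orderOf a ≤ 3 := by
    intro a ha
    by_cases h2 : a ^ 2 = 1
    · exact ⟨orderOf_pos_iff.mpr (isOfFinOrder_iff_pow_eq_one.mpr ⟨2, two_pos, h2⟩),
        (orderOf_le_of_pow_eq_one two_pos h2).trans (by norm_num)⟩
    · have h3 := cube_eq_one hS hdeg hA hB hC.1 hP hp hAP hCP hC.2.2 hC.2.1 hall ha h2
      exact ⟨orderOf_pos_iff.mpr (isOfFinOrder_iff_pow_eq_one.mpr ⟨3, three_pos, h3⟩),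
        orderOf_le_of_pow_eq_one three_pos h3⟩
  have hordAll : ∀ E ∈ S, ∀ e ∈ E, 0 < orderOf e ∧ orderOf e ≤ 3 := by
    intro E hE e he
    obtain ⟨x, rfl⟩ := hcl.2 A hA E hE
    obtain ⟨a, ha, rfl⟩ := Subgroup.mem_map.mp he
    rw [MulEquiv.coe_toMonoidHom, MulEquiv.orderOf_eq]
    exact hord a ha
  obtain ⟨x, hx, y, hy, hm, hne⟩ := hH hordAll
  exact hne (no_commutator ⟨hS, hdeg, hA, hB, hP, hp, hAP, hBP, hC, hCP, hsame⟩ hx hy hm)

end Cfsg.Agent.RootSub.Degenerate
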