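import Cfsg.Agent.RootSub.Special.Braid

/-!
# Degenerate sets: exponent at most 3 when two members have the same commuting partners

A pair (A, B) such that every member commuting with A commutes with B, together with a commuting
member C and a common partner P of A and C, forces a³ = 1 for the elements a of A with a² ≠ 1.
-/

namespace Cfsg.Agent.RootSub.Degenerate

open Cfsg Braid Special

variable {G : Type*} [Group G] {S : Set (Subgroup G)} {A B C P : Subgroup G}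

theorem dich (hS : IsRootSubgroupSet S) (hdeg : IsDegenerateRootSet S) (hA : A ∈ S) (hB : B ∈ S) :
    ⁅A, B⁆ = ⊥ ∨ IsRankOnePair A B := by
  rcases hS.pair A hA B hB with h | h | h
  exacts [.inl h, .inr h, absurd h (hdeg A hA B hB)]

theorem no_invol_conj (h : ∀ x ∈ A, x ^ 2 = 1 → x = 1) {g : G} (hB : B = conjBy A g) :
    ∀ y ∈ B, y ^ 2 = 1 → y = 1 := by
  subst hB
  intro y hy hy2
  have h1 : g⁻¹ * y * g = 1 := by
    refine h _ (mem_conjBy.mp hy) ?_
    calc (g⁻¹ * y * g) ^ 2 = g⁻¹ * y ^ 2 * g := by simp [sq, mul_assoc]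
      _ = 1 := by rw [hy2]; group
  have := congrArg (fun z => g * z * g⁻¹) h1
  simpa [mul_assoc] using this

theorem sq_inj (hS : IsRootSubgroupSet S) (hA : A ∈ S) (h : ∀ x ∈ A, x ^ 2 = 1 → x = 1) {x y : G}
    (hx : x ∈ A) (hy : y ∈ A) (he : x ^ 2 = y ^ 2) : x = y := by
  refine mul_inv_eq_one.mp (h _ (mul_mem hx (inv_mem hy)) ?_)
  rw [Commute.mul_pow (IsRootSubgroupSet.commute_self hS hA hx (inv_mem hy)), he, inv_pow,
    mul_inv_cancel]

/-- The algebra of the two bridges. -/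
theorem bridge_rel {f g g' π π' : G} (hπ : π' * π' = π) (hg : π⁻¹ * f * π = g * f)
    (hg' : π'⁻¹ * f ^ 2 * π' = g' * f ^ 2) (hc : g' * π' = π' * g') :
    f * g * f⁻¹ = g⁻¹ * (g' * g') := by
  have e1 : π⁻¹ * f ^ 2 * π = g' * g' * f ^ 2 := by
    have hc' : π'⁻¹ * g' = g' * π'⁻¹ := (Commute.inv_left (Commute.symm hc)).eq
    calc π⁻¹ * f ^ 2 * π = π'⁻¹ * (π'⁻¹ * f ^ 2 * π') * π' := by rw [← hπ]; group
      _ = π'⁻¹ * g' * f ^ 2 * π' := by rw [hg']; group
      _ = g' * (π'⁻¹ * f ^ 2 * π') := by rw [hc']; group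
      _ = g' * g' * f ^ 2 := by rw [hg', mul_assoc]
  have e2 : π⁻¹ * f ^ 2 * π = g * f * g * f := by
    calc π⁻¹ * f ^ 2 * π = (π⁻¹ * f * π) * (π⁻¹ * f * π) := by rw [sq]; group
      _ = g * f * g * f := by rw [hg]; group
  have e3 : g' * g' * f = g * f * g := by
    refine mul_right_cancel (b := f) ?_
    rw [← e2, e1, sq, mul_assoc]
  calc f * g * f⁻¹ = g⁻¹ * (g * f * g) * f⁻¹ := by group
    _ = g⁻¹ * (g' * g') := by rw [← e3]; group

theorem cube_eq_one (hS : IsRootSubgroupSet S) (hdeg : IsDegenerateRootSet S) (hA : A ∈ S)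
    (hB : B ∈ S) (hC : C ∈ S) (hP : P ∈ S) (hAB : IsRankOnePair A B) (hAP : IsRankOnePair A P)
    (hCP : IsRankOnePair C P) (hAC : ⁅A, C⁆ = ⊥) (hne : C ≠ A)
    (hall : ∀ M ∈ commutingPartners S A, ⁅M, B⁆ = ⊥) {a : G} (ha : a ∈ A) (ha2 : a ^ 2 ≠ 1) :
    a ^ 3 = 1 := by
  have hsP := Braid.spair hS hA hP hAP hCP hAC hne
  have hsC := Braid.spair hS hC hP hCP hAP (bot_comm hAC) hne.symm
  have ha1 : a ≠ 1 := fun h => ha2 (by rw [h, one_pow])
  have hiA : ∀ x ∈ A, x ^ 2 = 1 → x = 1 := fun x hx h2 =>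
    of_not_not fun h1 => ha2 (hsP.elementary_two hx h1 h2 ha)
  obtain ⟨x₀, -, hx₀⟩ := RankOne.right_eq_conj hAP
  have hiP := no_invol_conj hiA hx₀
  obtain ⟨π, hπ⟩ := hsP.exists_partner ha ha1
  obtain ⟨π', hπ'⟩ := hsP.exists_partner (pow_mem ha 2) ha2
  obtain ⟨c, hc⟩ := hsC.exists_partner' hπ.mem' hπ.ne'
  obtain ⟨x₁, -, hx₁⟩ := RankOne.right_eq_conj (RankOnePair_symm hCP)
  have hiC := no_invol_conj hiP hx₁
  have hc2 : c ^ 2 ≠ 1 := fun h => hc.ne (hiC c hc.mem h)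
  obtain ⟨π'', hπ''⟩ := hsC.exists_partner (pow_mem hc.mem 2) hc2
  obtain rfl : π'' = π' := sq_inj hS hP hiP hπ''.mem' hπ'.mem'
    (by rw [hsC.partner_sq hc hπ'', hsP.partner_sq hπ hπ'])
  have hsq : π'' * π'' = π := by rw [← sq, hsP.partner_sq hπ hπ']
  have d1 := Braid.data hS hA hP hAP hCP hAC hne ha hπ.mem' hc.mem (hsP.conj_eq' hπ)
    (hsC.conj_eq' hc)
  have d2 := Braid.data hS hA hP hAP hCP hAC hne (pow_mem ha 2) hπ'.mem' (pow_mem hc.mem 2)
    (hsP.conj_eq' hπ') (hsC.conj_eq' hπ'')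
  have hac : Commute a c := d1.ac
  have hf2 : (a ^ 2)⁻¹ * c ^ 2 = (a⁻¹ * c) ^ 2 := by
    rw [hac.inv_left.mul_pow, inv_pow]
  set f := a⁻¹ * c with hf
  set g := bridge f π with hg
  set g' := bridge ((a ^ 2)⁻¹ * c ^ 2) π'' with hg'
  have hga : g * a * g⁻¹ = c := d1.conjA
  have hg'a : g' * a * g'⁻¹ = c := by
    refine sq_inj hS hC hiC (d2.carry ▸ conjBy_mem ha g') hc.mem ?_
    rw [conj_pow]
    exact d2.conjA
  have hrel := bridge_rel hsq (show π⁻¹ * f * π = g * f from Braid.Data.twist)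
    (show π''⁻¹ * f ^ 2 * π'' = g' * f ^ 2 by rw [hg', ← hf2]; exact Braid.Data.twist) d2.gb
  -- the two bridges commute
  have hb1 : f * π * f⁻¹ ∈ conjBy P f := conjBy_mem hπ.mem' f
  have hb2 : (a ^ 2)⁻¹ * c ^ 2 * π'' * ((a ^ 2)⁻¹ * c ^ 2)⁻¹ ∈ conjBy (conjBy P f) f := by
    rw [conjBy_conjBy, ← sq, ← hf2]
    exact conjBy_mem hπ'.mem' _
  have hbot1 : ⁅P, conjBy P f⁆ = ⊥ := d1.shiftBot
  have hbot2 : ⁅P, conjBy (conjBy P f) f⁆ = ⊥ := by
    rw [conjBy_conjBy, ← sq, ← hf2]; exact d2.shiftBot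
  have hbot3 : ⁅conjBy P f, conjBy (conjBy P f) f⁆ = ⊥ := (conjBy_bot_iff f).mpr hbot1
  have hgg' : Commute g g' := by
    have c1 : Commute π π'' := IsRootSubgroupSet.commute_self hS hP hπ.mem' hπ'.mem'
    have c2 := commute_of_bot hbot2 hπ.mem' hb2
    have c3 := commute_of_bot hbot1 hπ'.mem' hb1
    have c4 := commute_of_bot hbot3 hb1 hb2
    exact ((c1.inv_left.inv_right).mul_right (Commute.inv_left c2)).mul_left
      ((Commute.inv_right (Commute.symm c3)).mul_right c4)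
  have hfixg : ∀ {u b : G}, u ∈ P → ⁅P, conjBy P b⁆ = ⊥ → conjBy P (bridge b u) = P := by
    intro u b hu hb
    rw [bridge, ← conjBy_conjBy, fix_of_bot (bot_comm hb) (conjBy_mem hu b),
      conjBy_mem_self (inv_mem hu)]
  have hgP : conjBy P g = P := hfixg hπ.mem' hbot1
  have hg'P : conjBy P g' = P := hfixg hπ'.mem' d2.shiftBot
  set k := g⁻¹ * g' with hk
  have hkg : Commute k g := ((Commute.refl g).inv_left.mul_left hgg'.symm)
  have hg'k : g' = g * k := (mul_inv_cancel_left g g').symm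
  have hka : Commute k a := by
    have h1 : g' * a = c * g' := mul_inv_eq_iff_eq_mul.mp hg'a
    have h2 : g * a = c * g := mul_inv_eq_iff_eq_mul.mp hga
    show g⁻¹ * g' * a = a * (g⁻¹ * g')
    calc g⁻¹ * g' * a = g⁻¹ * c * g' := by rw [mul_assoc, h1, mul_assoc]
      _ = g⁻¹ * (c * g) * g⁻¹ * g' := by group
      _ = a * (g⁻¹ * g') := by rw [← h2]; group
  have hkc : Commute k c := by
    rw [← hga]; exact (hkg.mul_right hka).mul_right hkg.inv_right
  have hkf : Commute k f := hka.inv_right.mul_right hkc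
  have hgf : g * f * g⁻¹ = k⁻¹ * k⁻¹ * f := by
    have h1 : f * g * f⁻¹ = g * (k * k) := by
      rw [hrel, hg'k, mul_assoc g k, ← mul_assoc k g k, hkg.eq]; group
    calc g * f * g⁻¹ = g * (f * g * f⁻¹)⁻¹ * f := by group
      _ = g * ((k * k)⁻¹ * g⁻¹) * f := by rw [h1, mul_inv_rev]
      _ = (k * k)⁻¹ * f := by
          rw [← mul_assoc g, ((hkg.mul_left hkg).inv_left.symm).eq]; group
      _ = k⁻¹ * k⁻¹ * f := by rw [mul_inv_rev]
  -- the conjugate of C by g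
  set C₂ := conjBy C g with hC₂
  have hC₂S : C₂ ∈ S := hS.conj_mem C hC g
  have hc₂v : g * c * g⁻¹ = k⁻¹ * k⁻¹ * a⁻¹ * (c * c) := by
    calc g * c * g⁻¹ = g * a * g⁻¹ * (g * f * g⁻¹) := by rw [hf]; group
      _ = c * (k⁻¹ * k⁻¹) * f := by rw [hga, hgf, ← mul_assoc]
      _ = k⁻¹ * k⁻¹ * (c * a⁻¹) * c := by
          rw [((hkc.inv_left.mul_left hkc.inv_left).symm).eq, hf]; group
      _ = k⁻¹ * k⁻¹ * a⁻¹ * (c * c) := by rw [← hac.inv_left.eq]; group
  have hmem₂ : g * c * g⁻¹ ∈ C₂ := conjBy_mem hc.mem g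
  have hne₂ : g * c * g⁻¹ ≠ 1 := fun h => hc.ne (conj_eq_one_iff.mp h)
  have hcom₂ : Commute a (g * c * g⁻¹) := by
    rw [hc₂v]
    exact (((hka.symm.inv_right).mul_right hka.symm.inv_right).mul_right
      (Commute.refl a).inv_right).mul_right (hac.mul_right hac)
  have hAC₂ : ⁅A, C₂⁆ = ⊥ := (dich hS hdeg hA hC₂S).resolve_right fun h =>
    RankOne.not_commute h ha ha1 hmem₂ hne₂ hcom₂.eq
  have hC₂A : C₂ ≠ A := by
    intro he
    have hm : g * c * g⁻¹ ∈ A := he ▸ hmem₂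
    have hfk : conjBy P (k * k) = P := by
      have h1 : conjBy P k = P := by
        rw [hk, ← conjBy_conjBy, hg'P]
        conv_lhs => rw [← hgP]
        rw [conjBy_inv_cancel]
      rw [← conjBy_conjBy, h1, h1]
    have hsq2 : c * c = a * (g * c * g⁻¹) * (k * k) := by
      have hkk : Commute (k * k) (a * (g * c * g⁻¹)) := by
        have h3 : Commute k (g * c * g⁻¹) := (hkg.mul_right hkc).mul_right hkg.inv_right
        exact (hka.mul_right h3).mul_left (hka.mul_right h3)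
      rw [← hkk.eq, hc₂v, show a * (k⁻¹ * k⁻¹ * a⁻¹ * (c * c)) = a * (k⁻¹ * k⁻¹) * a⁻¹ * (c * c) by
        group, ((hka.inv_left.mul_left hka.inv_left).symm).eq]
      group
    have ht : conjBy P (c * c) = conjBy P (a * (g * c * g⁻¹)) := by
      rw [hsq2, ← conjBy_conjBy, hfk]
    have hcc : c * c ∈ C := mul_mem hc.mem hc.mem
    have hne' : P ≠ conjBy P (c * c) := fun h => hc2 (by
      rw [sq]; exact RankOne.eq_one_of_fix hCP hcc h.symm)
    have m1 : conjBy P (c * c) ∈ unipotentSubgroups C P :=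
      conjBy_mem_unipotent (Subgroup.mem_sup_left hcc) (RankOne.right_mem hCP)
    have m2 : conjBy P (c * c) ∈ unipotentSubgroups A P := ht ▸
      conjBy_mem_unipotent (Subgroup.mem_sup_left (mul_mem ha hm)) (RankOne.right_mem hAP)
    have e1 := RankOne.unipotent_congr hCP (RankOne.right_mem hCP) m1 hne'
    have e2 := RankOne.unipotent_congr hAP (RankOne.right_mem hAP) m2 hne'
    have hCm : C ∈ unipotentSubgroups A P := by
      rw [← e2, e1]; exact self_mem_unipotent C P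
    exact RankOne.not_bot
      (RankOne.pair_of_ne hAP (self_mem_unipotent A P) hCm hne.symm).1 hAC
  have hC₂B : ⁅C₂, B⁆ = ⊥ := hall C₂ ⟨hC₂S, hC₂A, hAC₂⟩
  have hCB : ⁅C, B⁆ = ⊥ := hall C ⟨hC, hne, hAC⟩
  have hkB : conjBy B (k * k) = conjBy B a⁻¹ := by
    have h1 := fix_of_bot hC₂B hmem₂
    rw [hc₂v, ← conjBy_conjBy, fix_of_bot hCB (mul_mem hc.mem hc.mem), ← conjBy_conjBy] at h1
    conv_lhs => rw [← h1]
    rw [conjBy_conjBy, conjBy_conjBy]
    congr 1
    group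
  -- the conjugate of A by g⁻¹ commutes with B
  have hgA : conjBy A g = C := d1.carry
  have hM : ⁅A, conjBy B g⁆ = ⊥ := by
    have hMA : ⁅conjBy A g⁻¹, A⁆ = ⊥ := by
      rw [← conjBy_bot_iff g, conjBy_cancel_inv, hgA]
      exact hAC
    have hMne : conjBy A g⁻¹ ≠ A := by
      intro h
      apply hne
      rw [← hgA]
      conv_lhs => rw [← h]
      rw [conjBy_cancel_inv]
    have h2 := hall _ ⟨hS.conj_mem A hA _, hMne, bot_comm hMA⟩
    rwa [← conjBy_bot_iff g, conjBy_cancel_inv] at h2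
  have hfixA : conjBy (conjBy B g) a⁻¹ = conjBy B g := fix_of_bot hM (inv_mem ha)
  have hkk : conjBy (conjBy B g) (k * k) = conjBy (conjBy B g) c⁻¹ := by
    rw [conjBy_conjBy, (hkg.mul_left hkg).eq, ← conjBy_conjBy, hkB, conjBy_conjBy, conjBy_conjBy,
      ← hga]
    congr 1
    group
  have h3 : conjBy (conjBy B g) c⁻¹ = conjBy (conjBy B g) (k⁻¹ * k⁻¹ * c) := by
    have h4 : conjBy (conjBy B g) (g * f * g⁻¹) = conjBy (conjBy B g) c⁻¹ := by
      rw [conjBy_conjBy, inv_mul_cancel_right, hf, ← mul_assoc, ← conjBy_conjBy,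
        fix_of_bot hCB hc.mem, conjBy_conjBy, ← hga]
      congr 1
      group
    rw [← h4, hgf, hf, hac.inv_left.eq, ← mul_assoc, ← conjBy_conjBy, hfixA]
  have hcube : conjBy (conjBy B g) (c * c * c) = conjBy B g := by
    have h5 : conjBy (conjBy B g) c = conjBy (conjBy B g) (c⁻¹ * c⁻¹) := by
      calc conjBy (conjBy B g) c
          = conjBy (conjBy (conjBy B g) (k⁻¹ * k⁻¹ * c)) (k * k) := by
            rw [conjBy_conjBy _ (k * k) _]; congr 1; group
        _ = conjBy (conjBy (conjBy B g) c⁻¹) (k * k) := by rw [h3]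
        _ = conjBy (conjBy (conjBy B g) (k * k)) c⁻¹ := by
            rw [conjBy_conjBy _ (k * k) c⁻¹, conjBy_conjBy _ c⁻¹ (k * k),
              ((hkc.mul_left hkc).inv_right).eq]
        _ = conjBy (conjBy B g) (c⁻¹ * c⁻¹) := by rw [hkk, conjBy_conjBy]
    rw [← conjBy_conjBy, h5, conjBy_conjBy]
    rw [show c * c * (c⁻¹ * c⁻¹) = 1 by group, conjBy_one]
  have hCB' : IsRankOnePair C (conjBy B g) := hgA ▸ RankOne.conj_pair hAB g
  have hc3 := RankOne.eq_one_of_fix hCB' (mul_mem (mul_mem hc.mem hc.mem) hc.mem) hcube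
  rw [← conj_eq_one_iff (a := g), ← conj_pow, hga, pow_succ, sq]
  exact hc3

end Cfsg.Agent.RootSub.Degenerate
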