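import Cfsg.Agent.RootSub.Special.Partner

/-!
# The exponent of the unipotent subgroups of a special rank one pair
-/

namespace Cfsg.Agent.RootSub.Special

open Cfsg

variable {G : Type*} [Group G] {A B : Subgroup G}

/-- A is elementary abelian or torsion free. -/
theorem SPair.exponent_cases (hP : SPair A B) :
    (∃ p : ℕ, p.Prime ∧ (∀ x ∈ A, x ≠ 1 → ∀ j, 0 < j → j < p → x ^ j ≠ 1) ∧
      ∀ x ∈ A, x ^ p = 1) ∨
    ∀ x ∈ A, x ≠ 1 → ∀ j, 0 < j → x ^ j ≠ 1 := by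
  classical
  by_cases h : ∃ n, 0 < n ∧ ∃ x ∈ A, x ≠ 1 ∧ x ^ n = 1
  · left
    obtain ⟨hp0, y, hy, hy1, hyp⟩ := Nat.find_spec h
    set p := Nat.find h
    have hmin : ∀ x ∈ A, x ≠ 1 → ∀ j, 0 < j → j < p → x ^ j ≠ 1 := fun x hx hx1 j hj hjp he =>
      Nat.find_min h hjp ⟨hj, x, hx, hx1, he⟩
    refine ⟨p, ?_, hmin, fun x hx => hP.pow_eq_one hp0 hmin hy hy1 hyp hx⟩
    have h2 : 2 ≤ p := by
      by_contra hlt
      have h1 : p = 1 := by omega
      rw [h1, pow_one] at hyp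
      exact hy1 hyp
    by_contra hnp
    obtain ⟨q, ⟨r, hr⟩, hq2, hqp⟩ := Nat.exists_dvd_of_not_prime2 h2 hnp
    have hr0 : 0 < r := by
      rcases Nat.eq_zero_or_pos r with h0 | h0
      · rw [h0, mul_zero] at hr; omega
      · exact h0
    have hrp : r < p := by
      rw [hr]
      exact (Nat.lt_mul_iff_one_lt_left hr0).mpr (by omega)
    refine hmin (y ^ q) (pow_mem hy q) (hmin y hy hy1 q (by omega) hqp) r hr0 hrp ?_
    rw [← pow_mul, ← hr, hyp]
  · right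
    push Not at h
    exact fun x hx hx1 j hj => h j hj x hx hx1

theorem SPair.torsion_free_symm (hP : SPair A B)
    (h : ∀ x ∈ A, x ≠ 1 → ∀ j, 0 < j → x ^ j ≠ 1) :
    ∀ x ∈ B, x ≠ 1 → ∀ j, 0 < j → x ^ j ≠ 1 := by
  intro x hx hx1 j hj he
  obtain ⟨g, -, hg⟩ := RankOne.right_eq_conj hP.pair
  rw [hg, mem_conjBy] at hx
  refine h _ hx (fun h1 => hx1 ?_) j hj ?_
  · have := congrArg (fun t => g * t * g⁻¹) h1
    simpa [mul_assoc] using this
  · have := conj_pow (i := j) (a := g⁻¹) (b := x)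
    rw [inv_inv] at this
    rw [this, he]
    simp

/-- A torsion free A is divisible. -/
theorem SPair.divisible (hP : SPair A B) (h : ∀ x ∈ A, x ≠ 1 → ∀ j, 0 < j → x ^ j ≠ 1) {a : G}
    (ha : a ∈ A) {n : ℕ} (hn : 0 < n) : ∃ c ∈ A, c ^ n = a := by
  rcases eq_or_ne a 1 with rfl | ha1
  · exact ⟨1, one_mem _, one_pow n⟩
  have hB := hP.torsion_free_symm h
  obtain ⟨b, hb⟩ := hP.exists_partner ha ha1
  obtain ⟨c, hc⟩ := hP.symm.exists_partner (pow_mem hb.mem' n) (hB b hb.mem' hb.ne' n hn)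
  exact ⟨c, hc.mem', hP.symm.partner_pow n (fun x hx hx1 j hj _ => hB x hx hx1 j hj) hn le_rfl
    b a c hb.symm hc⟩

end Cfsg.Agent.RootSub.Special
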