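import Cfsg.Agent.RootSub.Sets

/-!
# Special rank one pairs with abelian unipotent subgroups

Every non-identity element a of A has a partner b in B with a b⁻¹ a = b⁻¹ a b⁻¹. The partner of
a power a ^ n is an n-th root of the partner of a, and an element of A is fixed only by few of
the Hua elements.
-/

namespace Cfsg.Agent.RootSub.Special

open Cfsg

variable {G : Type*} [Group G]

/-- A special rank one pair with abelian unipotent subgroups. -/
structure SPair (A B : Subgroup G) : Prop where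
  pair : IsRankOnePair A B
  spec : ∀ a ∈ A, a ≠ 1 → ∀ b ∈ B, b ≠ 1 → conjBy A b⁻¹ = conjBy B a⁻¹ →
    b⁻¹ * a * b = a⁻¹ * b⁻¹ * a
  commA : ∀ x ∈ A, ∀ y ∈ A, x * y = y * x
  commB : ∀ x ∈ B, ∀ y ∈ B, x * y = y * x

theorem SPair.of_special {A B : Subgroup G} (hs : IsSpecialRankOnePair A B)
    (hab : HasAbelianUnipotents A B) : SPair A B := by
  refine ⟨hs.1, hs.2, fun x hx y hy => ?_, fun x hx y hy => ?_⟩
  · exact congrArg Subtype.val (hab.1.is_comm.comm ⟨x, hx⟩ ⟨y, hy⟩)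
  · exact congrArg Subtype.val (hab.2.is_comm.comm ⟨x, hx⟩ ⟨y, hy⟩)

/-- b is the partner of a. -/
structure Partner (A B : Subgroup G) (a b : G) : Prop where
  mem : a ∈ A
  ne : a ≠ 1
  mem' : b ∈ B
  ne' : b ≠ 1
  braid : a * b⁻¹ * a = b⁻¹ * a * b⁻¹

/-- The Weyl element of a partner pair. -/
def mu (a b : G) : G := a * b⁻¹ * a

variable {A B : Subgroup G} {a b : G}

theorem Partner.symm (h : Partner A B a b) : Partner B A b a := by
  refine ⟨h.mem', h.ne', h.mem, h.ne, ?_⟩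
  have := congrArg (·⁻¹) h.braid
  simp only [mul_inv_rev, inv_inv, ← mul_assoc] at this
  exact this.symm

theorem Partner.inv (h : Partner A B a b) : Partner A B a⁻¹ b⁻¹ := by
  refine ⟨inv_mem h.mem, inv_ne_one.mpr h.ne, inv_mem h.mem', inv_ne_one.mpr h.ne', ?_⟩
  have := congrArg (·⁻¹) h.braid
  simp only [mul_inv_rev, inv_inv, ← mul_assoc] at this ⊢
  exact this

theorem Partner.conj_eq_mul (h : Partner A B a b) : b⁻¹ * a * b = a⁻¹ * b⁻¹ * a := by
  have h1 : a⁻¹ * (a * b⁻¹ * a) * b = a⁻¹ * (b⁻¹ * a * b⁻¹) * b := by rw [h.braid]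
  simp only [mul_assoc, inv_mul_cancel_left, inv_mul_cancel, mul_one] at h1
  simpa [mul_assoc] using h1

theorem SPair.symm (hP : SPair A B) : SPair B A := by
  refine ⟨RankOnePair_symm hP.pair, fun b hb hb1 a ha ha1 he => ?_, hP.commB, hP.commA⟩
  have h := congrArg (·⁻¹) (hP.spec a ha ha1 b hb hb1 he.symm)
  simp only [mul_inv_rev, inv_inv, ← mul_assoc] at h
  exact h.symm

theorem SPair.conj_eq (hP : SPair A B) (h : Partner A B a b) :
    conjBy A b⁻¹ = conjBy B a⁻¹ := by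
  refine RankOne.eq_of_mem_mem hP.pair (conjBy_mem_unipotent
      (inv_mem (Subgroup.mem_sup_left h.mem)) (RankOne.right_mem hP.pair))
    (conjBy_mem_unipotent (inv_mem (Subgroup.mem_sup_right h.mem')) (self_mem_unipotent A B))
    (c := a⁻¹ * b⁻¹ * a) ?_ ?_ ?_
  · rw [mem_conjBy]; simpa [mul_assoc] using inv_mem h.mem'
  · rw [← h.conj_eq_mul, mem_conjBy]; simpa [mul_assoc] using h.mem
  · intro he
    apply h.ne'
    have := congrArg (fun x => a * x * a⁻¹) he
    simpa [mul_assoc] using this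

theorem SPair.conj_eq' (hP : SPair A B) (h : Partner A B a b) : conjBy A b = conjBy B a := by
  simpa using hP.conj_eq h.inv

theorem SPair.partner_of_eq (hP : SPair A B) (ha : a ∈ A) (ha1 : a ≠ 1) (hb : b ∈ B) (hb1 : b ≠ 1)
    (he : conjBy A b⁻¹ = conjBy B a⁻¹) : Partner A B a b := by
  refine ⟨ha, ha1, hb, hb1, ?_⟩
  have h := hP.spec a ha ha1 b hb hb1 he
  calc a * b⁻¹ * a = a * (b⁻¹ * a * b) * b⁻¹ := by simp [mul_assoc]
    _ = b⁻¹ * a * b⁻¹ := by rw [h]; simp [mul_assoc]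

theorem SPair.exists_partner (hP : SPair A B) (ha : a ∈ A) (ha1 : a ≠ 1) :
    ∃ b, Partner A B a b := by
  obtain ⟨b, hb, hb1, he⟩ := hP.pair.cond_left a ha ha1
  exact ⟨b, hP.partner_of_eq ha ha1 hb hb1 he⟩

theorem SPair.exists_partner' (hP : SPair A B) (hb : b ∈ B) (hb1 : b ≠ 1) :
    ∃ a, Partner A B a b := by
  obtain ⟨a, ha⟩ := hP.symm.exists_partner hb hb1
  exact ⟨a, ha.symm⟩

/-- Two elements of B carrying A to the same member are equal. -/
theorem SPair.eq_of_conj (hP : SPair A B) {b' : G} (hb : b ∈ B) (hb' : b' ∈ B)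
    (h : conjBy A b = conjBy A b') : b = b' :=
  RankOne.conjBy_right_inj (RankOnePair_symm hP.pair) hb hb' h

theorem SPair.partner_unique (hP : SPair A B) {b' : G} (h : Partner A B a b)
    (h' : Partner A B a b') : b = b' :=
  hP.eq_of_conj h.mem' h'.mem' (by rw [hP.conj_eq' h, hP.conj_eq' h'])

theorem SPair.partner_unique' (hP : SPair A B) {a' : G} (h : Partner A B a b)
    (h' : Partner A B a' b) : a = a' :=
  hP.symm.partner_unique h.symm h'.symm

theorem Partner.mu_eq (h : Partner A B a b) : mu a b = b⁻¹ * a * b⁻¹ := h.braid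

theorem Partner.mu_conj (h : Partner A B a b) : mu a b * a * (mu a b)⁻¹ = b⁻¹ := by
  have h' := h.conj_eq_mul
  calc mu a b * a * (mu a b)⁻¹ = a * (b⁻¹ * a * b) * a⁻¹ := by simp [mu, mul_assoc]
    _ = b⁻¹ := by rw [h']; simp [mul_assoc]

theorem Partner.mu_conj' (h : Partner A B a b) : mu a b * b * (mu a b)⁻¹ = a⁻¹ := by
  have h' := h.inv.mu_conj
  have e : mu a⁻¹ b⁻¹ = (mu a b)⁻¹ := by simp [mu, mul_assoc]
  rw [e, inv_inv, inv_inv] at h'
  calc mu a b * b * (mu a b)⁻¹ = mu a b * ((mu a b)⁻¹ * a⁻¹ * mu a b) * (mu a b)⁻¹ := by rw [h']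
    _ = a⁻¹ := by simp [mul_assoc]

theorem SPair.mu_mem (h : Partner A B a b) : mu a b ∈ A ⊔ B :=
  mul_mem (mul_mem (Subgroup.mem_sup_left h.mem) (inv_mem (Subgroup.mem_sup_right h.mem')))
    (Subgroup.mem_sup_left h.mem)

theorem SPair.mu_left (hP : SPair A B) (h : Partner A B a b) : conjBy A (mu a b) = B := by
  rw [mu, ← conjBy_conjBy, conjBy_mem_self h.mem, ← conjBy_conjBy, hP.conj_eq h, conjBy_cancel_inv]

theorem SPair.mu_right (hP : SPair A B) (h : Partner A B a b) : conjBy B (mu a b) = A := by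
  rw [h.mu_eq, ← conjBy_conjBy, conjBy_mem_self (inv_mem h.mem'), ← conjBy_conjBy,
    ← hP.conj_eq' h, conjBy_inv_cancel]

/-- The Hua elements normalise A and B. -/
theorem SPair.hua_fix (hP : SPair A B) {a' b' : G} (h : Partner A B a b) (h' : Partner A B a' b') :
    (mu a b)⁻¹ * mu a' b' ∈ rankOneDiagonal A B := by
  have e : ∀ C D : Subgroup G, conjBy C (mu a b) = D → conjBy D (mu a b)⁻¹ = C := by
    rintro C D rfl; exact conjBy_inv_cancel _ _
  refine Subgroup.mem_inf.mpr ⟨Subgroup.mem_inf.mpr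
    ⟨mul_mem (inv_mem (SPair.mu_mem h)) (SPair.mu_mem h'), ?_⟩, ?_⟩
  · rw [← conjBy_eq_self_iff, ← conjBy_conjBy, hP.mu_left h']
    exact e _ _ (hP.mu_left h)
  · rw [← conjBy_eq_self_iff, ← conjBy_conjBy, hP.mu_right h']
    exact e _ _ (hP.mu_right h)

/-- One step of the power law. -/
theorem SPair.partner_step (hP : SPair A B) {c c' e : G} {n : ℕ} (h : Partner A B a b)
    (hc : Partner A B (a ^ n) c) (hcb : c ^ n = b) (hc' : Partner A B (a ^ (n + 1)) c')
    (he : Partner A B ((a ^ (n + 1)) ^ n) e) : c' * e = c := by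
  have hconj : (a ^ n)⁻¹ * b⁻¹ * a ^ n = c⁻¹ * (a ^ n) ^ n * c := by
    have h1 : (a ^ n)⁻¹ * c⁻¹ * a ^ n = c⁻¹ * a ^ n * c := hc.conj_eq_mul.symm
    have h2 := conj_pow (i := n) (a := (a ^ n)⁻¹) (b := c⁻¹)
    rw [inv_inv, h1, inv_pow, hcb] at h2
    have h3 := conj_pow (i := n) (a := c⁻¹) (b := a ^ n)
    rw [inv_inv] at h3
    rw [← h2, h3]
  have key : conjBy A c'⁻¹ = conjBy A (c⁻¹ * e) := by
    calc conjBy A c'⁻¹ = conjBy (conjBy B a⁻¹) (a ^ n)⁻¹ := by
          rw [hP.conj_eq hc', conjBy_conjBy, pow_succ', mul_inv_rev]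
      _ = conjBy A ((a ^ n)⁻¹ * b⁻¹) := by rw [← hP.conj_eq h, conjBy_conjBy]
      _ = conjBy A ((a ^ n)⁻¹ * b⁻¹ * a ^ n) := by
          rw [← conjBy_conjBy A _ (a ^ n), conjBy_mem_self (pow_mem h.mem n)]
      _ = conjBy (conjBy A c) (c⁻¹ * (a ^ n) ^ n) := by rw [hconj, conjBy_conjBy]
      _ = conjBy (conjBy B ((a ^ n) ^ (n + 1))) c⁻¹ := by
          rw [hP.conj_eq' hc, conjBy_conjBy, conjBy_conjBy, mul_assoc, ← pow_succ]
      _ = conjBy A (c⁻¹ * e) := by
          rw [← pow_mul, mul_comm n, pow_mul, ← hP.conj_eq' he, conjBy_conjBy]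
  have h' := hP.eq_of_conj (inv_mem hc'.mem') (mul_mem (inv_mem hc.mem') he.mem') key
  have h'' := congrArg (fun x => c * x * c') h'
  simp only [mul_assoc, inv_mul_cancel, mul_one, mul_inv_cancel_left] at h''
  rw [hP.commB _ hc'.mem' _ he.mem']
  exact h''.symm

/-- The partner of a ^ n is an n-th root of the partner of a. -/
theorem SPair.partner_pow (hP : SPair A B) (N : ℕ)
    (hN : ∀ x ∈ A, x ≠ 1 → ∀ j, 0 < j → j < N → x ^ j ≠ 1) {n : ℕ} (hn : 0 < n) (hnN : n ≤ N) :
    ∀ a b c, Partner A B a b → Partner A B (a ^ n) c → c ^ n = b := by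
  induction n, hn using Nat.le_induction with
  | base =>
    intro a b c h hc
    rw [pow_one] at hc ⊢
    exact hP.partner_unique hc h
  | succ n hn ih =>
    intro a b c' h hc'
    have hlt : n < N := by omega
    obtain ⟨c, hc⟩ := hP.exists_partner (pow_mem h.mem n) (hN a h.mem h.ne n hn hlt)
    obtain ⟨e, he⟩ := hP.exists_partner (pow_mem hc'.mem n) (hN _ hc'.mem hc'.ne n hn hlt)
    have hcb := ih hlt.le a b c h hc
    have hec := ih hlt.le _ c' e hc' he
    have hstep := hP.partner_step h hc hcb hc' he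
    have hcm : Commute c' e := hP.commB _ hc'.mem' _ he.mem'
    rw [pow_succ]
    calc c' ^ n * c' = c' ^ n * e ^ n := by rw [hec]
      _ = (c' * e) ^ n := (hcm.mul_pow n).symm
      _ = b := by rw [hstep, hcb]

/-- The partner of a square is a square root. -/
theorem SPair.partner_sq (hP : SPair A B) {c : G} (h : Partner A B a b)
    (hc : Partner A B (a ^ 2) c) : c ^ 2 = b :=
  hP.partner_pow 2 (fun x _ hx j hj hj2 => by
    have : j = 1 := by omega
    rwa [this, pow_one]) two_pos le_rfl a b c h hc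

/-- The exponent of A is the least prime occurring as an order, if any. -/
theorem SPair.pow_eq_one (hP : SPair A B) {p : ℕ} (hp : 0 < p)
    (hmin : ∀ x ∈ A, x ≠ 1 → ∀ j, 0 < j → j < p → x ^ j ≠ 1) {y : G} (hy : y ∈ A) (hy1 : y ≠ 1)
    (hyp : y ^ p = 1) {x : G} (hx : x ∈ A) : x ^ p = 1 := by
  by_contra hne
  have hxy : (x * y) ^ p = x ^ p := by
    rw [Commute.mul_pow (hP.commA _ hx _ hy), hyp, mul_one]
  have hx1 : x ≠ 1 := fun h => hne (by rw [h, one_pow])
  have hxy1 : x * y ≠ 1 := fun h => hne (by rw [← hxy, h, one_pow])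
  obtain ⟨b, hb⟩ := hP.exists_partner hx hx1
  obtain ⟨b', hb'⟩ := hP.exists_partner (mul_mem hx hy) hxy1
  obtain ⟨c, hc⟩ := hP.exists_partner (pow_mem hx p) hne
  have e1 := hP.partner_pow p hmin hp le_rfl x b c hb hc
  have e2 := hP.partner_pow p hmin hp le_rfl (x * y) b' c hb' (hxy.symm ▸ hc)
  have hbb : b = b' := e1.symm.trans e2
  exact hy1 (mul_eq_left.mp (hP.partner_unique' hb' (hbb ▸ hb)))

theorem SPair.elementary_two (hP : SPair A B) {y : G} (hy : y ∈ A) (hy1 : y ≠ 1) (hy2 : y ^ 2 = 1)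
    {x : G} (hx : x ∈ A) : x ^ 2 = 1 :=
  hP.pow_eq_one two_pos (fun z _ hz j hj hj2 => by
    have : j = 1 := by omega
    rwa [this, pow_one]) hy hy1 hy2 hx

/-- If the Hua element of (e, a) sends e to e ^ σ, where σ is given by its value e', then the
partner of a⁻¹ e' is b⁻¹ g for the partner g of a e. -/
theorem SPair.partner_of_conj (hP : SPair A B) {e e' β β' g : G} (h : Partner A B a b)
    (he : Partner A B e β) (he' : Partner A B e' β') (hg : Partner A B (a * e) g)
    (hmu : mu a b * e * (mu a b)⁻¹ = β') : Partner A B (a⁻¹ * e') (b⁻¹ * g) := by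
  have hne : b⁻¹ * g ≠ 1 := by
    intro h0
    rw [inv_mul_eq_one] at h0
    have := hP.partner_unique' hg (h0 ▸ h)
    exact he.ne (mul_eq_left.mp this)
  obtain ⟨x, hx⟩ := hP.exists_partner' (mul_mem (inv_mem h.mem') hg.mem') hne
  suffices x = a⁻¹ * e' by rwa [← this]
  have key : conjBy B (a * x) = conjBy B e' := by
    calc conjBy B (a * x) = conjBy A (a * (b⁻¹ * g)) := by
          rw [← conjBy_conjBy, ← hP.conj_eq' hx, conjBy_conjBy]
      _ = conjBy (conjBy B e) (mu a b) := by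
          rw [← mul_assoc, ← conjBy_conjBy, hP.conj_eq' hg, conjBy_conjBy, conjBy_conjBy, mu]
          simp [mul_assoc]
      _ = conjBy (conjBy A (mu a b)⁻¹) (mu a b * e) := by
          have hB : conjBy A (mu a b)⁻¹ = B := by
            have := conjBy_inv_cancel B (mu a b)
            rwa [hP.mu_right h] at this
          rw [hB, conjBy_conjBy]
      _ = conjBy A β' := by rw [conjBy_conjBy, hmu]
      _ = conjBy B e' := hP.conj_eq' he'
  have := RankOne.conjBy_right_inj hP.pair (mul_mem h.mem hx.mem) he'.mem key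
  rw [← this, inv_mul_cancel_left]

/-- An element e of A is fixed by the Hua element of a only if a is e or e⁻¹. -/
theorem SPair.hua_moves (hP : SPair A B) {e β : G} (h : Partner A B a b) (he : Partner A B e β)
    (h1 : a ≠ e) (h2 : a * e ≠ 1) :
    ((mu a b)⁻¹ * mu e β) * e * ((mu a b)⁻¹ * mu e β)⁻¹ ≠ e := by
  intro hfix
  have hmu : mu a b * e * (mu a b)⁻¹ = β⁻¹ := by
    conv_lhs => rw [← hfix]
    rw [← he.mu_conj]
    simp [mul_assoc]
  obtain ⟨g, hg⟩ := hP.exists_partner (mul_mem h.mem he.mem) h2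
  have hx := hP.partner_of_conj h he he.inv hg hmu
  have hae : a⁻¹ * e⁻¹ = (a * e)⁻¹ := by rw [mul_inv_rev, hP.commA _ (inv_mem h.mem) _ (inv_mem he.mem)]
  rw [hae] at hx
  have hg2 := hP.partner_unique hx hg.inv
  have hsq : g ^ 2 = b := by
    rw [inv_mul_eq_iff_eq_mul, eq_mul_inv_iff_mul_eq] at hg2
    rw [sq]; exact hg2
  have hinvol : ∀ {x y : G}, Partner A B x y → (x ^ 2 = 1 ↔ y ^ 2 = 1) := by
    intro x y hxy
    constructor <;> intro hx2
    · have hh := hxy.inv
      rw [show x⁻¹ = x from inv_eq_of_mul_eq_one_right (by rw [← sq, hx2])] at hh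
      rw [sq]
      exact inv_eq_iff_mul_eq_one.mp (hP.partner_unique hh hxy)
    · have hh := hxy.inv
      rw [show y⁻¹ = y from inv_eq_of_mul_eq_one_right (by rw [← sq, hx2])] at hh
      rw [sq]
      exact inv_eq_iff_mul_eq_one.mp (hP.partner_unique' hh hxy)
  by_cases htwo : ∃ x ∈ A, x ≠ 1 ∧ x ^ 2 = 1
  · obtain ⟨x, hx, hx1, hx2⟩ := htwo
    have hg1 := (hinvol hg).mp (hP.elementary_two hx hx1 hx2 hg.mem)
    exact h.ne' (by rw [← hsq, hg1])
  · push Not at htwo
    obtain ⟨c, hc⟩ := hP.exists_partner (pow_mem h.mem 2) (htwo a h.mem h.ne)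
    have hc2 := hP.partner_sq h hc
    have hgc : g * c⁻¹ = 1 := by
      by_contra hgc
      obtain ⟨y, hy⟩ := hP.exists_partner' (mul_mem hg.mem' (inv_mem hc.mem')) hgc
      refine htwo y hy.mem hy.ne ((hinvol hy).mpr ?_)
      rw [Commute.mul_pow (hP.commB _ hg.mem' _ (inv_mem hc.mem')), inv_pow, hsq, hc2,
        mul_inv_cancel]
    rw [mul_inv_eq_one] at hgc
    have := hP.partner_unique' hg (hgc ▸ hc)
    rw [sq] at this
    exact h1 (mul_left_cancel this).symm

end Cfsg.Agent.RootSub.Special
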