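import Cfsg.Agent.RootSub.Dickson.Common

/-!
# Recognition of the image of SL₂(p)

Two one parameter families u, l over the field with p elements whose Weyl elements exchange them
as in SL₂ give a homomorphism from SL₂(p). The torus elements are multiplicative by the relation
coming from a sum of two non-squares that is a square.
-/

namespace Cfsg.Agent.RootSub.Special

open Cfsg.Agent.RootSub.Dickson
open scoped MatrixGroups

variable {p : ℕ} [Fact p.Prime]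

/-- Two families in a group behaving like the unitriangular subgroups of SL₂(p). -/
structure SL2Data (p : ℕ) [Fact p.Prime] (Γ : Type*) [Group Γ] where
  u : ZMod p → Γ
  l : ZMod p → Γ
  u_add : ∀ x y, u (x + y) = u x * u y
  l_add : ∀ x y, l (x + y) = l x * l y
  conj_u : ∀ t x, t ≠ 0 →
    (u t * l (-t⁻¹) * u t) * u x * (u t * l (-t⁻¹) * u t)⁻¹ = l (-(x / t ^ 2))
  conj_l : ∀ t x, t ≠ 0 →
    (u t * l (-t⁻¹) * u t) * l x * (u t * l (-t⁻¹) * u t)⁻¹ = u (-(t ^ 2 * x))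

namespace SL2Data

variable {Γ : Type*} [Group Γ] (D : SL2Data p Γ)

/-- The Weyl elements. -/
def m (t : ZMod p) : Γ := D.u t * D.l (-t⁻¹) * D.u t

/-- The torus elements. -/
def f (t : ZMod p) : Γ := D.m t * (D.m 1)⁻¹

theorem u_zero : D.u 0 = 1 := by
  have h := D.u_add 0 0
  rw [add_zero] at h
  exact mul_eq_left.mp h.symm

theorem l_zero : D.l 0 = 1 := by
  have h := D.l_add 0 0
  rw [add_zero] at h
  exact mul_eq_left.mp h.symm

theorem u_neg (x : ZMod p) : D.u (-x) = (D.u x)⁻¹ :=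
  (inv_eq_of_mul_eq_one_right (by rw [← D.u_add, add_neg_cancel, u_zero])).symm

theorem l_neg (x : ZMod p) : D.l (-x) = (D.l x)⁻¹ :=
  (inv_eq_of_mul_eq_one_right (by rw [← D.l_add, add_neg_cancel, l_zero])).symm

theorem m_u {t : ZMod p} (ht : t ≠ 0) (x : ZMod p) :
    D.m t * D.u x = D.l (-(x / t ^ 2)) * D.m t :=
  mul_inv_eq_iff_eq_mul.mp (D.conj_u t x ht)

theorem m_l {t : ZMod p} (ht : t ≠ 0) (x : ZMod p) :
    D.m t * D.l x = D.u (-(t ^ 2 * x)) * D.m t :=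
  mul_inv_eq_iff_eq_mul.mp (D.conj_l t x ht)

theorem m_braid {t : ZMod p} (ht : t ≠ 0) : D.m t = D.l (-t⁻¹) * D.u t * D.l (-t⁻¹) := by
  have h := D.m_u ht t
  rw [show t / t ^ 2 = t⁻¹ by field_simp] at h
  rw [m] at h ⊢
  simp only [← mul_assoc] at h
  exact mul_right_cancel h

theorem m_inv (t : ZMod p) : (D.m t)⁻¹ = D.m (-t) := by
  simp [m, u_neg, l_neg, inv_neg, mul_assoc]

theorem m_one_conj {s : ZMod p} (hs : s ≠ 0) : D.m 1 * D.m s * (D.m 1)⁻¹ = D.m s⁻¹ := by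
  have h1 : (1 : ZMod p) ≠ 0 := one_ne_zero
  rw [m_braid D (inv_ne_zero hs), inv_inv]
  have e1 : D.m 1 * D.u s = D.l (-s) * D.m 1 := by simpa using D.m_u h1 s
  have e2 : D.m 1 * D.l (-s⁻¹) = D.u s⁻¹ * D.m 1 := by simpa using D.m_l h1 (-s⁻¹)
  rw [mul_inv_eq_iff_eq_mul]
  show D.m 1 * (D.u s * D.l (-s⁻¹) * D.u s) = _
  calc D.m 1 * (D.u s * D.l (-s⁻¹) * D.u s)
      = D.m 1 * D.u s * D.l (-s⁻¹) * D.u s := by simp only [mul_assoc]
    _ = D.l (-s) * (D.m 1 * D.l (-s⁻¹)) * D.u s := by rw [e1]; simp only [mul_assoc]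
    _ = D.l (-s) * D.u s⁻¹ * (D.m 1 * D.u s) := by rw [e2]; simp only [mul_assoc]
    _ = _ := by rw [e1]; simp only [mul_assoc]

theorem f_one : D.f 1 = 1 := mul_inv_cancel _

theorem f_u {s : ZMod p} (hs : s ≠ 0) (x : ZMod p) : D.f s * D.u x = D.u (s ^ 2 * x) * D.f s := by
  have h1 : (-1 : ZMod p) ≠ 0 := neg_ne_zero.mpr one_ne_zero
  rw [f, m_inv, mul_assoc, D.m_u h1, ← mul_assoc, D.m_l hs, mul_assoc]
  congr 2
  field_simp

theorem f_l {s : ZMod p} (hs : s ≠ 0) (x : ZMod p) : D.f s * D.l x = D.l (x / s ^ 2) * D.f s := by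
  have h1 : (-1 : ZMod p) ≠ 0 := neg_ne_zero.mpr one_ne_zero
  rw [f, m_inv, mul_assoc, D.m_l h1, ← mul_assoc, D.m_u hs, mul_assoc]
  congr 2
  field_simp

theorem f_m {s t : ZMod p} (hs : s ≠ 0) (ht : t ≠ 0) :
    D.f s * D.m t = D.m (s ^ 2 * t) * D.f s := by
  simp only [m]
  calc D.f s * (D.u t * D.l (-t⁻¹) * D.u t) = D.f s * D.u t * D.l (-t⁻¹) * D.u t := by
        simp only [mul_assoc]
    _ = D.u (s ^ 2 * t) * (D.f s * D.l (-t⁻¹)) * D.u t := by rw [D.f_u hs]; simp only [mul_assoc]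
    _ = D.u (s ^ 2 * t) * D.l (-t⁻¹ / s ^ 2) * (D.f s * D.u t) := by
        rw [D.f_l hs]; simp only [mul_assoc]
    _ = _ := by
        rw [D.f_u hs, show -t⁻¹ / s ^ 2 = -(s ^ 2 * t)⁻¹ by field_simp]
        simp only [mul_assoc]

/-- Commuting with all u and l is commuting with every torus element. -/
theorem commute_of_commute {z : Γ} (hu : ∀ x, Commute z (D.u x)) (hl : ∀ x, Commute z (D.l x))
    (t : ZMod p) : Commute z (D.f t) :=
  (((hu _).mul_right (hl _)).mul_right (hu _)).mul_right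
    (((hu _).mul_right (hl _)).mul_right (hu _)).inv_right

theorem f_pow {s : ZMod p} (hs : s ≠ 0) (n : ℕ) (x : ZMod p) :
    D.f s ^ n * D.u x = D.u ((s ^ n) ^ 2 * x) * D.f s ^ n ∧
      D.f s ^ n * D.l x = D.l (x / (s ^ n) ^ 2) * D.f s ^ n := by
  induction n with
  | zero => simp
  | succ n ih =>
    constructor
    · rw [pow_succ' (D.f s), mul_assoc, ih.1, ← mul_assoc, D.f_u hs, mul_assoc]
      congr 2
      ring
    · rw [pow_succ' (D.f s), mul_assoc, ih.2, ← mul_assoc, D.f_l hs, mul_assoc]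
      congr 2
      field_simp
      ring

theorem f_comm {s t : ZMod p} (hs : s ≠ 0) (ht : t ≠ 0) : Commute (D.f s) (D.f t) := by
  obtain ⟨g, hg⟩ := (inferInstance : IsCyclic (ZMod p)ˣ)
  set ν : ZMod p := (g : ZMod p) with hν
  have hν0 : ν ≠ 0 := g.ne_zero
  have key : ∀ s : ZMod p, s ≠ 0 → ∃ (n : ℕ) (z : Γ), D.f s = z * D.f ν ^ n ∧
      (∀ x, Commute z (D.u x)) ∧ ∀ x, Commute z (D.l x) := by
    intro s hs
    obtain ⟨n, hn⟩ := (mem_powers_iff_mem_zpowers.mpr (hg (Units.mk0 s hs)) :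
      Units.mk0 s hs ∈ Submonoid.powers g)
    have he : ν ^ n = s := by simpa [hν] using congrArg Units.val hn
    refine ⟨n, D.f s * (D.f ν ^ n)⁻¹, (inv_mul_cancel_right _ _).symm, fun x => ?_, fun x => ?_⟩
    · have hinv : (D.f ν ^ n)⁻¹ * D.u x = D.u (x / s ^ 2) * (D.f ν ^ n)⁻¹ := by
        rw [inv_mul_eq_iff_eq_mul, ← mul_assoc, (D.f_pow hν0 n _).1, he, mul_inv_cancel_right]
        congr 1; field_simp
      show D.f s * (D.f ν ^ n)⁻¹ * D.u x = D.u x * (D.f s * (D.f ν ^ n)⁻¹)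
      rw [mul_assoc, hinv, ← mul_assoc, D.f_u hs, mul_assoc]
      congr 2
      field_simp
    · have hinv : (D.f ν ^ n)⁻¹ * D.l x = D.l (x * s ^ 2) * (D.f ν ^ n)⁻¹ := by
        rw [inv_mul_eq_iff_eq_mul, ← mul_assoc, (D.f_pow hν0 n _).2, he, mul_inv_cancel_right]
        congr 1; field_simp
      show D.f s * (D.f ν ^ n)⁻¹ * D.l x = D.l x * (D.f s * (D.f ν ^ n)⁻¹)
      rw [mul_assoc, hinv, ← mul_assoc, D.f_l hs, mul_assoc]
      congr 2
      field_simp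
  obtain ⟨n, z, hz, hzu, hzl⟩ := key s hs
  obtain ⟨n', z', hz', hzu', hzl'⟩ := key t ht
  have c1 : Commute z (D.f ν) := D.commute_of_commute hzu hzl ν
  have c2 : Commute z' (D.f ν) := D.commute_of_commute hzu' hzl' ν
  have c3 : Commute z (D.f t) := D.commute_of_commute hzu hzl t
  rw [hz]
  refine c3.mul_left ?_
  rw [hz']
  exact (c2.symm.pow_left n).mul_right ((Commute.refl _).pow_pow n n')

theorem f_sq_mul {s t : ZMod p} (hs : s ≠ 0) (ht : t ≠ 0) :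
    D.f (s ^ 2 * t) = D.f t * D.f (s ^ 2) := by
  have h1 := D.f_m hs ht
  have h2 : D.f s * D.m 1 = D.m (s ^ 2) * D.f s := by simpa using D.f_m hs one_ne_zero
  have key : D.f s * D.f t = D.f (s ^ 2 * t) * (D.f (s ^ 2))⁻¹ * D.f s := by
    simp only [f, mul_inv_rev, inv_inv] at h1 h2 ⊢
    calc D.m s * (D.m 1)⁻¹ * (D.m t * (D.m 1)⁻¹)
        = (D.m s * (D.m 1)⁻¹ * D.m t) * (D.m 1)⁻¹ := by simp only [mul_assoc]
      _ = D.m (s ^ 2 * t) * (D.m (s ^ 2))⁻¹ * (D.m (s ^ 2) * (D.m s * (D.m 1)⁻¹)) * (D.m 1)⁻¹ := by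
          rw [h1]; simp [mul_assoc]
      _ = _ := by rw [← h2]; simp [mul_assoc]
  rw [(D.f_comm hs ht).eq] at key
  rw [mul_right_cancel key]
  simp [mul_assoc]

theorem m_mul_m {t s : ZMod p} (ht : t ≠ 0) (hs : s ≠ 0) (hn : t + s ≠ 0) :
    D.m t * D.m s = D.m (t ^ 2 / (t + s)) * D.m (t * s / (t + s)) := by
  set w := t ^ 2 / (t + s) with hw
  set r := t * s / (t + s) with hr
  have hw0 : w ≠ 0 := div_ne_zero (pow_ne_zero _ ht) hn
  have hr0 : r ≠ 0 := div_ne_zero (mul_ne_zero ht hs) hn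
  have hl : ∀ x, x ≠ 0 → D.l (-x⁻¹) = D.u (-x) * D.m x * D.u (-x) := fun x _ => by
    simp [m, u_neg, mul_assoc]
  have e1 : D.l (-t⁻¹) * D.l (-s⁻¹) = D.l (-r⁻¹) := by
    rw [← D.l_add]; congr 1; rw [hr]; field_simp; ring
  have e2 : D.m t * D.u (-(t + s)) = D.l (-(-w)⁻¹) * D.m t := by
    rw [D.m_u ht]; congr 2; rw [hw]; field_simp
  have e3 : D.u w * (D.m t * D.m s) = D.m t * D.m s * D.u (s ^ 2 / (t + s)) := by
    rw [mul_assoc (D.m t), D.m_u hs, ← mul_assoc (D.m t), D.m_l ht, mul_assoc]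
    congr 2
    rw [hw]; field_simp
  rw [hl t ht, hl s hs, hl r hr0] at e1
  have e4 : D.u (-t) * D.u w = D.u (-r) := by
    rw [← D.u_add]; congr 1; rw [hr, hw]; field_simp; ring
  have e5 : D.u (s ^ 2 / (t + s)) * D.u (-s) = D.u (-r) := by
    rw [← D.u_add]; congr 1; rw [hr]; field_simp; ring
  have main : D.u (-r) * (D.m (-w) * (D.m t * D.m s)) * D.u (-r) =
      D.u (-r) * D.m r * D.u (-r) := by
    rw [← e1]
    calc D.u (-r) * (D.m (-w) * (D.m t * D.m s)) * D.u (-r)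
        = D.u (-t) * D.u w * D.m (-w) * (D.m t * D.m s * D.u (s ^ 2 / (t + s))) * D.u (-s) := by
          conv_lhs => arg 2; rw [← e5]
          rw [← e4]
          simp only [mul_assoc]
      _ = D.u (-t) * (D.u (- -w) * D.m (-w) * D.u (- -w)) * D.m t * D.m s * D.u (-s) := by
          rw [← e3, neg_neg]
          simp only [mul_assoc]
      _ = D.u (-t) * (D.m t * D.u (-(t + s))) * D.m s * D.u (-s) := by
          rw [← hl _ (neg_ne_zero.mpr hw0), e2]
          simp only [mul_assoc]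
      _ = _ := by
          rw [show -(t + s) = -t + -s by ring, D.u_add]
          simp only [mul_assoc]
  have h := mul_left_cancel (mul_right_cancel main)
  rw [← D.m_inv, inv_mul_eq_iff_eq_mul] at h
  exact h

/-- The torus elements are multiplicative. -/
theorem f_mul {x y : ZMod p} (hx : x ≠ 0) (hy : y ≠ 0) : D.f (x * y) = D.f x * D.f y := by
  have hsqmul : ∀ {q z : ZMod p}, IsSquare q → q ≠ 0 → z ≠ 0 → D.f (q * z) = D.f q * D.f z := by
    rintro q z ⟨c, rfl⟩ hq hz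
    have hc : c ≠ 0 := fun h => hq (by simp [h])
    rw [← sq, D.f_sq_mul hc hz]
    exact (D.f_comm hz (pow_ne_zero _ hc)).eq
  by_cases hsq : IsSquare x
  · exact hsqmul hsq hx hy
  by_cases hsqy : IsSquare y
  · rw [mul_comm, hsqmul hsqy hy hx, (D.f_comm hy hx).eq]
  have hp2 : ringChar (ZMod p) ≠ 2 := by
    intro h2
    exact hsq (FiniteField.isSquare_of_char_two h2 x)
  obtain ⟨ν, hν⟩ := FiniteField.exists_nonsquare hp2
  have hν0 : ν ≠ 0 := fun h => hν (h ▸ IsSquare.zero)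
  -- two non-squares with a square sum
  obtain ⟨t, s, ht, hs, hn, hnsq⟩ : ∃ t s : ZMod p, ¬ IsSquare t ∧ ¬ IsSquare s ∧ t + s ≠ 0 ∧
      IsSquare (t + s) := by
    by_contra hcon
    push Not at hcon
    have hall : ∀ j : ℕ, (j : ZMod p) ≠ 0 → (∀ i, 0 < i → i < j → (i : ZMod p) ≠ 0) →
        ¬ IsSquare ((j : ZMod p) * ν) := by
      intro j
      induction j with
      | zero => intro h; simp at h
      | succ j ih =>
        intro hj hlt
        rcases Nat.eq_zero_or_pos j with rfl | hjpos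
        · simpa using hν
        rw [show ((j + 1 : ℕ) : ZMod p) * ν = (j : ZMod p) * ν + ν by push_cast; ring]
        refine hcon _ _ (ih (hlt j hjpos (Nat.lt_succ_self j))
          fun i hi hij => hlt i hi (by omega)) hν ?_
        rw [show (j : ZMod p) * ν + ν = ((j + 1 : ℕ) : ZMod p) * ν by push_cast; ring]
        exact mul_ne_zero hj hν0
    have hv := hall ν.val (by rwa [ZMod.natCast_zmod_val]) fun i hi hij h0 => by
      rw [ZMod.natCast_eq_zero_iff] at h0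
      have := Nat.le_of_dvd hi h0
      have := ν.val_lt
      omega
    rw [ZMod.natCast_zmod_val] at hv
    exact hv ⟨ν, rfl⟩
  have ht0 : t ≠ 0 := fun h => ht (h ▸ IsSquare.zero)
  have hs0 : s ≠ 0 := fun h => hs (h ▸ IsSquare.zero)
  have hprod : ∀ {a b : ZMod p}, ¬ IsSquare a → ¬ IsSquare b → IsSquare (a * b) := by
    intro a b ha hb
    have ha0 : a ≠ 0 := fun h => ha (h ▸ IsSquare.zero)
    have hb0 : b ≠ 0 := fun h => hb (h ▸ IsSquare.zero)
    rw [← quadraticChar_one_iff_isSquare (mul_ne_zero ha0 hb0), map_mul,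
      quadraticChar_neg_one_iff_not_isSquare.mpr ha, quadraticChar_neg_one_iff_not_isSquare.mpr hb]
    norm_num
  have hts : IsSquare (t * s) := hprod ht hs
  have htsn : IsSquare (t ^ 2 / (t + s)) ∧ IsSquare (t * s / (t + s)) := by
    constructor
    · exact (IsSquare.sq t).div hnsq
    · exact hts.div hnsq
  have hw0 : t ^ 2 / (t + s) ≠ 0 := div_ne_zero (pow_ne_zero _ ht0) hn
  have hr0 : t * s / (t + s) ≠ 0 := div_ne_zero (mul_ne_zero ht0 hs0) hn
  have hmf : ∀ a b : ZMod p, b ≠ 0 → D.m a * D.m b = D.f a * D.f b⁻¹ * (D.m 1 * D.m 1) := by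
    intro a b hb
    rw [f, f, ← D.m_one_conj hb]
    simp [mul_assoc]
  have hrel := D.m_mul_m ht0 hs0 hn
  rw [hmf _ _ hs0, hmf _ _ hr0] at hrel
  have hrel' := mul_right_cancel hrel
  -- f t * f t = f (t ^ 2)
  have hqsq : IsSquare (s / t) := by
    rw [show s / t = t * s / t ^ 2 by field_simp]
    exact hts.div (IsSquare.sq t)
  have hq0 : s / t ≠ 0 := div_ne_zero hs0 ht0
  have hright : D.f (t ^ 2 / (t + s)) * D.f (t * s / (t + s))⁻¹ = D.f (s / t)⁻¹ := by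
    rw [← hsqmul htsn.1 hw0 (inv_ne_zero hr0)]
    congr 1
    field_simp
  have hleft : D.f s⁻¹ = D.f (s⁻¹ ^ 2) * (D.f (s / t) * D.f t) := by
    rw [← hsqmul hqsq hq0 ht0, ← hsqmul (IsSquare.sq _) (pow_ne_zero _ (inv_ne_zero hs0))
      (mul_ne_zero hq0 ht0)]
    congr 1
    field_simp
  rw [hright, hleft] at hrel'
  have hmerge : D.f (s⁻¹ ^ 2) * D.f (s / t) = D.f (s⁻¹ ^ 2 * (s / t)) :=
    (hsqmul (IsSquare.sq _) (pow_ne_zero _ (inv_ne_zero hs0)) hq0).symm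
  rw [← mul_assoc (D.f (s⁻¹ ^ 2)), hmerge] at hrel'
  have hk0 : s⁻¹ ^ 2 * (s / t) ≠ 0 := mul_ne_zero (pow_ne_zero _ (inv_ne_zero hs0)) hq0
  have hksq : IsSquare (s⁻¹ ^ 2 * (s / t)) := (IsSquare.sq _).mul hqsq
  have htt : D.f t * D.f t = D.f (t ^ 2) := by
    have h1 : D.f (s⁻¹ ^ 2 * (s / t)) * (D.f t * D.f t) =
        D.f (s⁻¹ ^ 2 * (s / t)) * D.f (t ^ 2) := by
      rw [← hsqmul hksq hk0 (pow_ne_zero _ ht0), ← mul_assoc, (D.f_comm hk0 ht0).eq, mul_assoc,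
        hrel']
      congr 1
      field_simp
    exact mul_left_cancel h1
  have ha : IsSquare (x / t) := by
    rw [show x / t = x * t / t ^ 2 by field_simp]; exact (hprod hsq ht).div (IsSquare.sq t)
  have hb : IsSquare (y / t) := by
    rw [show y / t = y * t / t ^ 2 by field_simp]; exact (hprod hsqy ht).div (IsSquare.sq t)
  have ha0 := div_ne_zero hx ht0
  have hb0 := div_ne_zero hy ht0
  calc D.f (x * y) = D.f (x / t * (y / t) * t ^ 2) := by congr 1; field_simp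
    _ = D.f (x / t) * D.f (y / t) * (D.f t * D.f t) := by
        rw [hsqmul (ha.mul hb) (mul_ne_zero ha0 hb0) (pow_ne_zero _ ht0), hsqmul ha ha0 hb0, htt]
    _ = D.f (x / t) * D.f t * (D.f (y / t) * D.f t) := by
        rw [mul_assoc, mul_assoc]
        congr 1
        rw [← mul_assoc, ← mul_assoc, (D.f_comm hb0 ht0).eq]
    _ = D.f x * D.f y := by
        rw [← hsqmul ha ha0 ht0, ← hsqmul hb hb0 ht0, div_mul_cancel₀ _ ht0, div_mul_cancel₀ _ ht0]

theorem m_one_f {c : ZMod p} (hc : c ≠ 0) : D.m 1 * D.f c = D.f c⁻¹ * D.m 1 := by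
  rw [f, f, ← D.m_one_conj hc]
  simp [mul_assoc]

theorem m_one_sq : D.m 1 * D.m 1 = D.f (-1) := by
  have h := D.f_mul (neg_ne_zero.mpr (one_ne_zero (α := ZMod p))) (neg_ne_zero.mpr one_ne_zero)
  rw [neg_mul_neg, one_mul, f_one] at h
  have h2 : D.f (-1) = (D.m 1)⁻¹ * (D.m 1)⁻¹ := by rw [f, ← D.m_inv]
  calc D.m 1 * D.m 1 = (D.f (-1))⁻¹ := by rw [h2]; simp
    _ = D.f (-1) := (eq_inv_of_mul_eq_one_left h.symm).symm

/-- The normal forms. -/
def NF (g : Γ) : Prop :=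
  (∃ x t, t ≠ 0 ∧ g = D.u x * D.f t) ∨ ∃ x t y, t ≠ 0 ∧ g = D.u x * D.f t * D.m 1 * D.u y

theorem nf_u_mul (i : ZMod p) {g : Γ} (h : D.NF g) : D.NF (D.u i * g) := by
  rcases h with ⟨x, t, ht, rfl⟩ | ⟨x, t, y, ht, rfl⟩
  · exact Or.inl ⟨i + x, t, ht, by rw [D.u_add]; simp only [mul_assoc]⟩
  · exact Or.inr ⟨i + x, t, y, ht, by rw [D.u_add]; simp only [mul_assoc]⟩

theorem nf_m_mul {g : Γ} (h : D.NF g) : D.NF (D.m 1 * g) := by
  rcases h with ⟨x, t, ht, rfl⟩ | ⟨x, t, y, ht, rfl⟩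
  · refine Or.inr ⟨0, t⁻¹, x / t ^ 2, inv_ne_zero ht, ?_⟩
    rw [u_zero, one_mul, show D.u x * D.f t = D.f t * D.u (x / t ^ 2) by
      rw [D.f_u ht]; congr 2; field_simp, ← mul_assoc, D.m_one_f ht]
  · have e : D.m 1 * (D.u x * D.f t * D.m 1 * D.u y) =
        D.f t⁻¹ * (D.m 1 * D.u (x / t ^ 2) * D.m 1) * D.u y := by
      rw [show D.u x * D.f t = D.f t * D.u (x / t ^ 2) by rw [D.f_u ht]; congr 2; field_simp]
      simp only [← mul_assoc]
      rw [D.m_one_f ht]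
    rw [e]
    set x' := x / t ^ 2
    rcases eq_or_ne x' 0 with h0 | h0
    · rw [h0, u_zero, mul_one, D.m_one_sq, ← D.f_mul (inv_ne_zero ht) (neg_ne_zero.mpr one_ne_zero)]
      have hc : t⁻¹ * -1 ≠ (0 : ZMod p) := mul_ne_zero (inv_ne_zero ht) (neg_ne_zero.mpr one_ne_zero)
      exact Or.inl ⟨_, _, hc, D.f_u hc y⟩
    · set s := x'⁻¹
      have hs : s ≠ 0 := inv_ne_zero h0
      have h1 : D.m 1 * D.u x' = D.l (-x') * D.m 1 := by simpa using D.m_u one_ne_zero x'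
      have h2 : D.l (-x') = D.u (-s) * (D.f s * D.m 1) * D.u (-s) := by
        rw [f, inv_mul_cancel_right, m, inv_inv]
        simp [u_neg, mul_assoc]
      rw [h1, h2]
      refine Or.inr ⟨t⁻¹ ^ 2 * -s, t⁻¹ * s * -1, -((-1) ^ 2 * s) + y, mul_ne_zero (mul_ne_zero
        (inv_ne_zero ht) hs) (neg_ne_zero.mpr one_ne_zero), ?_⟩
      have h3 : D.u (-s) * (D.m 1 * D.m 1) = D.f (-1) * D.u (-((-1) ^ 2 * s)) := by
        rw [D.m_one_sq, D.f_u (neg_ne_zero.mpr one_ne_zero)]; congr 2; ring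
      calc D.f t⁻¹ * (D.u (-s) * (D.f s * D.m 1) * D.u (-s) * D.m 1 * D.m 1) * D.u y
          = D.f t⁻¹ * D.u (-s) * D.f s * D.m 1 * (D.u (-s) * (D.m 1 * D.m 1)) * D.u y := by
            simp only [mul_assoc]
        _ = D.u (t⁻¹ ^ 2 * -s) * (D.f t⁻¹ * D.f s) * (D.m 1 * D.f (-1)) *
              (D.u (-((-1) ^ 2 * s)) * D.u y) := by
            rw [h3, D.f_u (inv_ne_zero ht)]; simp only [mul_assoc]
        _ = D.u (t⁻¹ ^ 2 * -s) * (D.f t⁻¹ * D.f s * D.f (-1)) * D.m 1 *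
              D.u (-((-1) ^ 2 * s) + y) := by
            rw [D.m_one_f (neg_ne_zero.mpr one_ne_zero), D.u_add, inv_neg, inv_one]
            simp only [mul_assoc]
        _ = _ := by
            rw [← D.f_mul (inv_ne_zero ht) hs,
              ← D.f_mul (mul_ne_zero (inv_ne_zero ht) hs) (neg_ne_zero.mpr one_ne_zero)]

/-- Every element of the group generated by u and l has normal form. -/
theorem nf_of_mem {g : Γ} (hg : g ∈ Subgroup.closure (Set.range D.u ∪ Set.range D.l)) : D.NF g := by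
  have hinv : ∀ {g}, D.NF g → D.NF ((D.m 1)⁻¹ * g) := by
    intro g h
    have e : (D.m 1)⁻¹ = D.m 1 * (D.m 1 * D.m 1) := by
      have h := D.f_mul (neg_ne_zero.mpr (one_ne_zero (α := ZMod p))) (neg_ne_zero.mpr one_ne_zero)
      rw [neg_mul_neg, one_mul, f_one, ← D.m_one_sq] at h
      exact inv_eq_of_mul_eq_one_right (by rw [← mul_assoc]; exact h.symm)
    rw [e, mul_assoc, mul_assoc]
    exact D.nf_m_mul (D.nf_m_mul (D.nf_m_mul h))
  have hl : ∀ i {g}, D.NF g → D.NF (D.l i * g) := by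
    intro i g h
    have e : D.l i = D.m 1 * D.u (-i) * (D.m 1)⁻¹ := by
      rw [D.m_u one_ne_zero (-i)]; simp
    rw [e, mul_assoc, mul_assoc]
    exact D.nf_m_mul (D.nf_u_mul _ (hinv h))
  induction hg using Subgroup.closure_induction_left with
  | one => exact Or.inl ⟨0, 1, one_ne_zero, by rw [u_zero, f_one, one_mul]⟩
  | mul_left x hx y hy ih =>
    rcases hx with ⟨i, rfl⟩ | ⟨i, rfl⟩
    exacts [D.nf_u_mul i ih, hl i ih]
  | inv_mul_cancel x hx y hy ih =>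
    rcases hx with ⟨i, rfl⟩ | ⟨i, rfl⟩
    · rw [← u_neg]; exact D.nf_u_mul _ ih
    · rw [← l_neg]; exact hl _ ih

end SL2Data

/-- The data in SL₂(p) itself, paired with given data. -/
def pairData {Γ : Type*} [Group Γ] (D : SL2Data p Γ) : SL2Data p (SL(2, ZMod p) × Γ) where
  u x := (upR x, D.u x)
  l x := (lowR x, D.l x)
  u_add x y := by simp [upR_add, D.u_add]
  l_add x y := by simp [lowR_add, D.l_add]
  conj_u t x ht := by
    simp only [Prod.mk_mul_mk, Prod.inv_mk, D.conj_u t x ht]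
    congr 1
    rw [mul_inv_eq_iff_eq_mul]
    apply ext_entries <;> simp [coe_upR, coe_lowR, Matrix.mul_apply, Fin.sum_univ_two, ht] <;>
      (try field_simp)
  conj_l t x ht := by
    simp only [Prod.mk_mul_mk, Prod.inv_mk, D.conj_l t x ht]
    congr 1
    rw [mul_inv_eq_iff_eq_mul]
    apply ext_entries <;> simp [coe_upR, coe_lowR, Matrix.mul_apply, Fin.sum_univ_two, ht] <;>
      (try field_simp)

theorem pairData_m_fst {Γ : Type*} [Group Γ] (D : SL2Data p Γ) {t : ZMod p} (ht : t ≠ 0) :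
    ((((pairData D).m t).1 : SL(2, ZMod p)) : Matrix (Fin 2) (Fin 2) (ZMod p)) =
      !![0, t; -t⁻¹, 0] := by
  refine Matrix.ext fun i j => ?_
  fin_cases i <;> fin_cases j <;>
    simp [SL2Data.m, pairData, coe_upR, coe_lowR, Matrix.mul_apply, Fin.sum_univ_two, ht]

theorem pairData_f_fst {Γ : Type*} [Group Γ] (D : SL2Data p Γ) {t : ZMod p} (ht : t ≠ 0) :
    ((((pairData D).f t).1 : SL(2, ZMod p)) : Matrix (Fin 2) (Fin 2) (ZMod p)) =
      !![t, 0; 0, t⁻¹] := by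
  rw [SL2Data.f, SL2Data.m_inv, Prod.fst_mul, Matrix.SpecialLinearGroup.coe_mul,
    pairData_m_fst D ht, pairData_m_fst D (neg_ne_zero.mpr one_ne_zero)]
  refine Matrix.ext fun i j => ?_
  fin_cases i <;> fin_cases j <;> simp [Matrix.mul_apply, Fin.sum_univ_two]

/-- **Recognition**: the data come from a homomorphism. -/
theorem SL2Data.exists_hom {Γ : Type*} [Group Γ] (D : SL2Data p Γ) :
    ∃ φ : SL(2, ZMod p) →* Γ, (∀ x, φ (upR x) = D.u x) ∧ (∀ x, φ (lowR x) = D.l x) ∧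
      (∀ g, D.NF (φ g)) ∧
      ∀ g, (∃ x t, t ≠ 0 ∧ φ g = D.u x * D.f t ∧ g 0 0 = t ∧ g 1 0 = 0 ∧ g 0 1 = x * t⁻¹) ∨
        ∃ x t y, t ≠ 0 ∧ φ g = D.u x * D.f t * D.m 1 * D.u y ∧ g 1 0 ≠ 0 := by
  set E := pairData D with hE
  set S := Subgroup.closure (Set.range E.u ∪ Set.range E.l) with hS
  let π : S →* SL(2, ZMod p) := (MonoidHom.fst _ _).comp S.subtype
  have hfsnd : ∀ t, (E.f t).2 = D.f t ∧ (E.m t).2 = D.m t := fun t => ⟨rfl, rfl⟩
  have hcases : ∀ g : S,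
      (∃ x t, t ≠ 0 ∧ (g : SL(2, ZMod p) × Γ) = E.u x * E.f t ∧ (π g) 0 0 = t ∧ (π g) 1 0 = 0 ∧
        (π g) 0 1 = x * t⁻¹) ∨
      ∃ x t y, t ≠ 0 ∧ (g : SL(2, ZMod p) × Γ) = E.u x * E.f t * E.m 1 * E.u y ∧ (π g) 1 0 ≠ 0 := by
    intro g
    rcases E.nf_of_mem g.2 with ⟨x, t, ht, he⟩ | ⟨x, t, y, ht, he⟩
    · have h1 : ((π g : SL(2, ZMod p)) : Matrix (Fin 2) (Fin 2) (ZMod p)) =
          !![1, x; 0, 1] * !![t, 0; 0, t⁻¹] := by
        show (((g : SL(2, ZMod p) × Γ).1 : SL(2, ZMod p)) : Matrix (Fin 2) (Fin 2) (ZMod p)) = _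
        rw [he, Prod.fst_mul, Matrix.SpecialLinearGroup.coe_mul, hE, pairData_f_fst D ht]
        rfl
      refine Or.inl ⟨x, t, ht, he, ?_, ?_, ?_⟩ <;> rw [h1] <;>
        simp [Matrix.mul_apply, Fin.sum_univ_two]
    · refine Or.inr ⟨x, t, y, ht, he, ?_⟩
      have h1 : ((π g : SL(2, ZMod p)) : Matrix (Fin 2) (Fin 2) (ZMod p)) =
          !![1, x; 0, 1] * !![t, 0; 0, t⁻¹] * !![0, 1; -1, 0] * !![1, y; 0, 1] := by
        show (((g : SL(2, ZMod p) × Γ).1 : SL(2, ZMod p)) : Matrix (Fin 2) (Fin 2) (ZMod p)) = _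
        rw [he, Prod.fst_mul, Prod.fst_mul, Prod.fst_mul, Matrix.SpecialLinearGroup.coe_mul,
          Matrix.SpecialLinearGroup.coe_mul, Matrix.SpecialLinearGroup.coe_mul, hE,
          pairData_f_fst D ht, pairData_m_fst D one_ne_zero, inv_one]
        rfl
      rw [h1]
      simp [Matrix.mul_apply, Fin.sum_univ_two, ht]
  have hinj : Function.Injective π := by
    rw [← MonoidHom.ker_eq_bot_iff, eq_bot_iff]
    intro g hg
    rw [MonoidHom.mem_ker] at hg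
    rw [Subgroup.mem_bot]
    rcases hcases g with ⟨x, t, ht, he, h00, -, h01⟩ | ⟨x, t, y, ht, -, h10⟩
    · rw [hg] at h00 h01
      simp at h00 h01
      subst h00
      simp at h01
      subst h01
      apply Subtype.ext
      rw [he, SL2Data.u_zero, SL2Data.f_one, one_mul]
      rfl
    · rw [hg] at h10
      simp at h10
  have hsurj : Function.Surjective π := by
    rw [← MonoidHom.range_eq_top]
    refine eq_top_of_trans (fun r => ?_) fun r => ?_
    · exact ⟨⟨E.u r, Subgroup.subset_closure (Or.inl ⟨r, rfl⟩)⟩, rfl⟩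
    · exact ⟨⟨E.l r, Subgroup.subset_closure (Or.inr ⟨r, rfl⟩)⟩, rfl⟩
  let e := MulEquiv.ofBijective π ⟨hinj, hsurj⟩
  let φ : SL(2, ZMod p) →* Γ := ((MonoidHom.snd _ _).comp S.subtype).comp e.symm.toMonoidHom
  have hval : ∀ g, φ g = ((e.symm g : S) : SL(2, ZMod p) × Γ).2 := fun g => rfl
  have hgen : ∀ (z : S), φ (π z) = (z : SL(2, ZMod p) × Γ).2 := fun z => by
    show (((e.symm (e z) : S)) : SL(2, ZMod p) × Γ).2 = _
    rw [e.symm_apply_apply]
  refine ⟨φ, fun x => hgen ⟨E.u x, Subgroup.subset_closure (Or.inl ⟨x, rfl⟩)⟩,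
    fun x => hgen ⟨E.l x, Subgroup.subset_closure (Or.inr ⟨x, rfl⟩)⟩, fun g => ?_, fun g => ?_⟩
  · obtain ⟨z, rfl⟩ := hsurj g
    rw [hgen]
    rcases hcases z with ⟨x, t, ht, he, -⟩ | ⟨x, t, y, ht, he, -⟩
    · exact Or.inl ⟨x, t, ht, by rw [he]; rfl⟩
    · exact Or.inr ⟨x, t, y, ht, by rw [he]; rfl⟩
  · obtain ⟨z, rfl⟩ := hsurj g
    rw [hgen]
    rcases hcases z with ⟨x, t, ht, he, h1, h2, h3⟩ | ⟨x, t, y, ht, he, h1⟩
    · exact Or.inl ⟨x, t, ht, by rw [he]; rfl, h1, h2, h3⟩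
    · exact Or.inr ⟨x, t, y, ht, by rw [he]; rfl, h1⟩

end Cfsg.Agent.RootSub.Special
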