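import Cfsg.Agent.RootSub.Special.Exponent
import Cfsg.Agent.RootSub.Special.SL2Data

/-!
# A partner pair of prime order generates an image of SL₂(p)
-/

namespace Cfsg.Agent.RootSub.Special

open Cfsg Cfsg.Agent.RootSub.Dickson
open scoped MatrixGroups

variable {G : Type*} [Group G] {p : ℕ} [Fact p.Prime]

/-- The power of a by a residue. -/
def ppow (a : G) (x : ZMod p) : G := a ^ x.val

theorem ppow_add {a : G} (ha : a ^ p = 1) (x y : ZMod p) :
    ppow a (x + y) = ppow a x * ppow a y := by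
  rw [ppow, ppow, ppow, ← pow_add, ZMod.val_add, ← pow_eq_pow_mod _ ha]

theorem ppow_mul {a : G} (ha : a ^ p = 1) (x y : ZMod p) :
    ppow a (x * y) = ppow a x ^ y.val := by
  rw [ppow, ppow, ← pow_mul, ZMod.val_mul, ← pow_eq_pow_mod _ ha]

theorem ppow_one {a : G} : ppow a (1 : ZMod p) = a := by
  rw [ppow, ZMod.val_one, pow_one]

theorem ppow_ne_one {A : Subgroup G} {a : G}
    (hmin : ∀ x ∈ A, x ≠ 1 → ∀ j, 0 < j → j < p → x ^ j ≠ 1) (ha : a ∈ A) (ha1 : a ≠ 1)
    {x : ZMod p} (hx : x ≠ 0) : ppow a x ≠ 1 :=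
  hmin a ha ha1 x.val (Nat.pos_of_ne_zero fun h => hx ((ZMod.val_eq_zero x).mp h)) x.val_lt

variable {A B : Subgroup G} {a b : G}

theorem SPair.exp_symm (hP : SPair A B) (hexp : ∀ x ∈ A, x ^ p = 1) : ∀ x ∈ B, x ^ p = 1 := by
  intro x hx
  obtain ⟨g, -, hg⟩ := RankOne.right_eq_conj hP.pair
  rw [hg, mem_conjBy] at hx
  have h := hexp _ hx
  have h' := conj_pow (i := p) (a := g⁻¹) (b := x)
  rw [inv_inv, h] at h'
  have := congrArg (fun t => g * t * g⁻¹) h'
  simpa [mul_assoc] using this.symm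

theorem SPair.partner_ppow (hP : SPair A B)
    (hmin : ∀ x ∈ A, x ≠ 1 → ∀ j, 0 < j → j < p → x ^ j ≠ 1) (hexp : ∀ x ∈ A, x ^ p = 1)
    (h : Partner A B a b) {t : ZMod p} (ht : t ≠ 0) :
    Partner A B (ppow a t) (ppow b t⁻¹) := by
  obtain ⟨c, hc⟩ := hP.exists_partner (pow_mem h.mem t.val) (ppow_ne_one hmin h.mem h.ne ht)
  have hpow := hP.partner_pow p hmin
    (Nat.pos_of_ne_zero fun h0 => ht ((ZMod.val_eq_zero t).mp h0)) t.val_lt.le a b c h hc
  have hcp : c ^ p = 1 := hP.exp_symm hexp c hc.mem'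
  suffices c = ppow b t⁻¹ by rw [← this]; exact hc
  calc c = ppow c (t * t⁻¹) := by rw [mul_inv_cancel₀ ht, ppow_one]
    _ = ppow b t⁻¹ := by rw [ppow_mul hcp, ppow, hpow]; rfl

variable (hP : SPair A B) (hmin : ∀ x ∈ A, x ≠ 1 → ∀ j, 0 < j → j < p → x ^ j ≠ 1)
  (hexp : ∀ x ∈ A, x ^ p = 1) (h : Partner A B a b)

include hP hmin hexp h

theorem SPair.ppow_weyl {t : ZMod p} (ht : t ≠ 0) :
    ppow a t * ppow b (-t⁻¹) * ppow a t = mu (ppow a t) (ppow b t⁻¹) := by
  have hb : b ^ p = 1 := hP.exp_symm hexp b h.mem'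
  have : ppow b (-t⁻¹) = (ppow b t⁻¹)⁻¹ := by
    refine (inv_eq_of_mul_eq_one_right ?_).symm
    rw [← ppow_add hb, add_neg_cancel, ppow, ZMod.val_zero, pow_zero]
  rw [this]; rfl

/-- The data of the subgroup generated by a partner pair. -/
def SPair.sl2Data : SL2Data p G where
  u := ppow a
  l := ppow b
  u_add := ppow_add (hexp a h.mem)
  l_add := ppow_add (hP.exp_symm hexp b h.mem')
  conj_u t x ht := by
    have ha : a ^ p = 1 := hexp a h.mem
    have hb : b ^ p = 1 := hP.exp_symm hexp b h.mem'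
    have hc := (hP.partner_ppow hmin hexp h ht).mu_conj
    rw [hP.ppow_weyl hmin hexp h ht]
    set μ := mu (ppow a t) (ppow b t⁻¹)
    rw [show x = t * (x / t) by field_simp, ppow_mul ha, ← conj_pow, hc,
      show -(t * (x / t) / t ^ 2) = (-t⁻¹) * (x / t) by field_simp, ppow_mul hb]
    congr 1
    refine inv_eq_of_mul_eq_one_right ?_
    rw [← ppow_add hb, add_neg_cancel, ppow, ZMod.val_zero, pow_zero]
  conj_l t x ht := by
    have ha : a ^ p = 1 := hexp a h.mem
    have hb : b ^ p = 1 := hP.exp_symm hexp b h.mem'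
    have hc := (hP.partner_ppow hmin hexp h ht).mu_conj'
    rw [hP.ppow_weyl hmin hexp h ht]
    set μ := mu (ppow a t) (ppow b t⁻¹)
    rw [show x = t⁻¹ * (t * x) by field_simp, ppow_mul hb, ← conj_pow, hc,
      show -(t ^ 2 * (t⁻¹ * (t * x))) = (-t) * (t * x) by field_simp, ppow_mul ha]
    congr 1
    refine inv_eq_of_mul_eq_one_right ?_
    rw [← ppow_add ha, add_neg_cancel, ppow, ZMod.val_zero, pow_zero]

/-- A partner pair generates a central quotient of SL₂(p). -/
theorem SPair.exists_sl2_hom :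
    ∃ φ : SL(2, ZMod p) →* G, φ.range = Subgroup.closure {a, b} ∧
      φ.ker ≤ Subgroup.center SL(2, ZMod p) ∧
      ∀ g ∈ φ.ker, g = 1 ∨ g = -1 := by
  have ha : a ^ p = 1 := hexp a h.mem
  set D := hP.sl2Data hmin hexp h with hD
  obtain ⟨φ, hu, hl, -, hcases⟩ := D.exists_hom
  have hrange : φ.range = Subgroup.closure {a, b} := by
    refine le_antisymm ?_ ((Subgroup.closure_le _).mpr ?_)
    · rw [MonoidHom.range_eq_map, ← eq_top_of_trans (P := (Subgroup.closure ({a, b} : Set G)).comap φ)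
        (fun r => ?_) (fun r => ?_), Subgroup.map_le_iff_le_comap]
      · rw [Subgroup.mem_comap, hu]
        exact pow_mem (Subgroup.subset_closure (by simp)) _
      · rw [Subgroup.mem_comap, hl]
        exact pow_mem (Subgroup.subset_closure (by simp)) _
    · rintro x (rfl | rfl)
      · exact ⟨upR 1, by rw [hu]; exact ppow_one⟩
      · exact ⟨lowR 1, by rw [hl]; exact ppow_one⟩
  have hfix : ∀ t : ZMod p, t ≠ 0 → conjBy B (D.f t) = B ∧ conjBy A (D.f t) = A := by
    intro t ht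
    have hm : ∀ t : ZMod p, t ≠ 0 → conjBy A (D.m t) = B ∧ conjBy B (D.m t) = A := fun t ht => by
      have hp := hP.partner_ppow hmin hexp h ht
      rw [show D.m t = mu (ppow a t) (ppow b t⁻¹) from hP.ppow_weyl hmin hexp h ht]
      exact ⟨hP.mu_left hp, hP.mu_right hp⟩
    obtain ⟨h1, h2⟩ := hm t ht
    obtain ⟨h3, h4⟩ := hm (-1) (neg_ne_zero.mpr one_ne_zero)
    rw [SL2Data.f, SL2Data.m_inv, ← conjBy_conjBy, h4, h1, ← conjBy_conjBy, h3, h2]
    exact ⟨rfl, rfl⟩
  have hker : ∀ g ∈ φ.ker, g = 1 ∨ g = -1 := by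
    intro g hg
    rw [MonoidHom.mem_ker] at hg
    rcases hcases g with ⟨x, t, ht, he, h00, h10, h01⟩ | ⟨x, t, y, ht, he, -⟩
    · rw [hg] at he
      have hx : D.u x = 1 := by
        refine RankOne.eq_one_of_fix hP.pair (pow_mem h.mem _) ?_
        have h1 : conjBy B (D.u x * D.f t) = B := by rw [← he, conjBy_one]
        rwa [← conjBy_conjBy, (hfix t ht).1] at h1
      have hx0 : x = 0 := by
        by_contra hx0
        exact ppow_ne_one hmin h.mem h.ne hx0 hx
      rw [hx, one_mul] at he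
      have hu1 := D.f_u ht 1
      rw [← he, one_mul, mul_one, mul_one] at hu1
      have ht2 : t ^ 2 = 1 := by
        by_contra hne
        refine ppow_ne_one hmin h.mem h.ne (sub_ne_zero.mpr hne) ?_
        have hu2 : ppow a (t ^ 2 - 1 + 1) = ppow a (1 : ZMod p) := by
          rw [sub_add_cancel]; exact hu1.symm
        rw [ppow_add ha] at hu2
        exact mul_eq_right.mp hu2
      subst hx0
      rw [zero_mul] at h01
      have hd := det2 g
      rw [h00, h01, h10, zero_mul, sub_zero] at hd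
      rcases sq_eq_one_iff.mp ht2 with rfl | rfl
      · left
        apply ext_entries <;> simp_all
      · right
        have h11 : g 1 1 = -1 := by linear_combination -hd
        apply ext_entries <;> simp_all
    · exfalso
      rw [hg] at he
      have hm1 : conjBy A (D.m 1) = B := by
        rw [show D.m 1 = mu (ppow a 1) (ppow b (1 : ZMod p)⁻¹) from
          hP.ppow_weyl hmin hexp h one_ne_zero]
        exact hP.mu_left (hP.partner_ppow hmin hexp h one_ne_zero)
      have h1 : conjBy A (D.u x * D.f t * D.m 1 * D.u y) = A := by rw [← he, conjBy_one]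
      rw [← conjBy_conjBy, conjBy_mem_self (show D.u y ∈ A from pow_mem h.mem _), ← conjBy_conjBy,
        hm1, ← conjBy_conjBy, (hfix t ht).1] at h1
      exact RankOne.conjBy_left_ne hP.pair (show D.u x ∈ A from pow_mem h.mem _) h1
  refine ⟨φ, hrange, fun g hg => ?_, hker⟩
  rcases hker g hg with rfl | rfl
  · exact one_mem _
  · rw [Subgroup.mem_center_iff]
    intro z
    apply ext_entries <;> simp [Matrix.mul_apply, Fin.sum_univ_two]

end Cfsg.Agent.RootSub.Special

namespace Cfsg.Agent.RootSub.Special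

open Cfsg.Agent.RootSub.Dickson
open scoped MatrixGroups

theorem order_min {G : Type*} [Group G] {A : Subgroup G} {p : ℕ} (hp : p.Prime)
    (hexp : ∀ x ∈ A, x ^ p = 1) : ∀ x ∈ A, x ≠ 1 → ∀ j, 0 < j → j < p → x ^ j ≠ 1 := by
  intro x hx hx1 j hj hjp he
  have := Fact.mk hp
  have hord := orderOf_eq_prime (hexp x hx) hx1
  have := Nat.le_of_dvd hj (hord ▸ orderOf_dvd_of_pow_eq_one he)
  omega

/-- The image of SL₂(p) under a homomorphism with kernel inside ±1. -/
theorem sl2_or_psl2 {G : Type*} [Group G] {p : ℕ} [Fact p.Prime] (φ : SL(2, ZMod p) →* G)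
    (hk : φ.ker ≤ Subgroup.center SL(2, ZMod p)) :
    Nonempty (φ.range ≃* SL(2, ZMod p)) ∨
      Nonempty (φ.range ≃* Matrix.ProjectiveSpecialLinearGroup (Fin 2) (ZMod p)) := by
  by_cases hb : φ.ker = ⊥
  · exact Or.inl ⟨(MonoidHom.ofInjective ((MonoidHom.ker_eq_bot_iff φ).mp hb)).symm⟩
  · obtain ⟨g, hg, hg1⟩ := (Subgroup.ne_bot_iff_exists_ne_one.mp hb) |> fun ⟨⟨g, hg⟩, hg1⟩ =>
      (⟨g, hg, fun he => hg1 (Subtype.ext he)⟩ : ∃ g ∈ φ.ker, g ≠ 1)
    have hc : ∀ z ∈ Subgroup.center SL(2, ZMod p), z = 1 ∨ z = -1 := by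
      intro z hz
      obtain ⟨r, hr2, hre⟩ := Matrix.SpecialLinearGroup.mem_center_iff.mp hz
      rcases sq_eq_one_iff.mp hr2 with rfl | rfl
      · left
        apply Subtype.ext
        rw [← hre]; simp
      · right
        apply ext_entries <;> rw [← hre] <;> simp
    have hge : g = -1 := (hc g (hk hg)).resolve_left hg1
    have hker : φ.ker = Subgroup.center SL(2, ZMod p) := by
      refine le_antisymm hk fun z hz => ?_
      rcases hc z hz with rfl | rfl
      · exact one_mem _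
      · exact hge ▸ hg
    exact Or.inr ⟨((QuotientGroup.quotientMulEquivOfEq hker.symm).trans
      (QuotientGroup.quotientKerEquivRange φ)).symm⟩

end Cfsg.Agent.RootSub.Special
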