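import Cfsg.Agent.RootSub.Special.Prime

/-!
# Special rank one groups with at most three elements in a unipotent subgroup
-/

namespace Cfsg.Agent.RootSub.Special

open Cfsg
open scoped MatrixGroups

theorem SPair.small {X : Type*} [Group X] {A B : Subgroup X} (hP : SPair A B) (hX : A ⊔ B = ⊤)
    (hA : ENat.card A ≤ 3) :
    Nonempty (X ≃* SL(2, ZMod 2)) ∨ Nonempty (X ≃* SL(2, ZMod 3)) ∨
      Nonempty (X ≃* Matrix.ProjectiveSpecialLinearGroup (Fin 2) (ZMod 3)) := by
  have hfin : Finite A := by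
    by_contra hinf
    rw [not_finite_iff_infinite] at hinf
    rw [ENat.card_eq_top_of_infinite] at hA
    exact absurd hA (by simp)
  have hcard : Nat.card A ≤ 3 := by
    rw [ENat.card_eq_coe_natCard] at hA
    exact_mod_cast hA
  obtain ⟨a, ha, ha1⟩ := RankOne.exists_ne_one hP.pair
  obtain ⟨p, hp, -, hexp⟩ := hP.exponent_cases.resolve_right fun h => by
    refine h a ha ha1 (Nat.card A) Nat.card_pos ?_
    exact congrArg Subtype.val (pow_card_eq_one' (G := A) (x := ⟨a, ha⟩))
  have := Fact.mk hp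
  have hzp : ∀ (C : Subgroup X) (c : X), c ∈ C → c ≠ 1 → c ^ p = 1 → Finite C → Nat.card C ≤ 3 →
      p ≤ 3 ∧ Subgroup.zpowers c = C := by
    intro C c hc hc1 hcp _ hC
    have hord := orderOf_eq_prime hcp hc1
    have hdvd : p ∣ Nat.card C := by
      rw [← hord, ← Subgroup.orderOf_mk c hc]; exact orderOf_dvd_natCard _
    have h0 : 0 < Nat.card C := Nat.card_pos
    refine ⟨(Nat.le_of_dvd h0 hdvd).trans hC,
      Subgroup.eq_of_le_of_card_ge (Subgroup.zpowers_le.mpr hc) ?_⟩
    rw [Nat.card_zpowers, hord]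
    obtain ⟨r, hr⟩ := hdvd
    have h2 := hp.two_le
    rcases r with _ | _ | r
    · omega
    · omega
    · have : 2 * 2 ≤ p * (r + 1 + 1) := Nat.mul_le_mul h2 (by omega)
      omega
  obtain ⟨b, hb⟩ := hP.exists_partner ha ha1
  obtain ⟨hp3, hzA⟩ := hzp A a ha ha1 (hexp a ha) hfin hcard
  have hAB : Nat.card B = Nat.card A := by
    obtain ⟨g, -, hg⟩ := RankOne.right_eq_conj hP.pair
    rw [hg]
    exact Subgroup.card_map_of_injective (MulAut.conj g).injective
  have hzB := (hzp B b hb.mem' hb.ne' (hP.exp_symm hexp b hb.mem')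
    (Nat.finite_of_card_ne_zero (hAB ▸ Nat.card_pos.ne')) (hAB ▸ hcard)).2
  obtain ⟨φ, hr, hk, hker⟩ := hP.exists_sl2_hom (order_min hp hexp) hexp hb
  have htop : φ.range = ⊤ := by
    rw [hr, eq_top_iff, ← hX, ← hzA, ← hzB]
    exact sup_le (Subgroup.zpowers_le.mpr (Subgroup.subset_closure (by simp)))
      (Subgroup.zpowers_le.mpr (Subgroup.subset_closure (by simp)))
  let e : φ.range ≃* X := (MulEquiv.subgroupCongr htop).trans Subgroup.topEquiv
  have h23 : p = 2 ∨ p = 3 := by have := hp.two_le; omega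
  rcases h23 with rfl | rfl
  · refine Or.inl ⟨(MulEquiv.ofBijective φ ⟨?_, MonoidHom.range_eq_top.mp htop⟩).symm⟩
    rw [← MonoidHom.ker_eq_bot_iff, eq_bot_iff]
    intro g hg
    rw [Subgroup.mem_bot]
    rcases hker g hg with h | h
    · exact h
    · rw [h]
      decide
  · rcases sl2_or_psl2 φ hk with h | h
    · exact Or.inr (Or.inl (h.map fun f => e.symm.trans f))
    · exact Or.inr (Or.inr (h.map fun f => e.symm.trans f))

end Cfsg.Agent.RootSub.Special
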